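import Cfsg.Agent.TwoPointA5.Sym
import Cfsg.Agent.PermSimple.Sharp
import Cfsg.Agent.SmallSimple.M11Uniq.Main
import Cfsg.Agent.Golay.M11Fusion

/-!
# Degree seven and degree twelve
-/

set_option autoImplicit false
set_option linter.unusedSectionVars false
set_option linter.style.haveILetI false

namespace CfsgLib.TwoPointA5

open MulAction Finset CfsgLib.TwoPointA4
open scoped Classical

universe u v

variable {G : Type u} {Ω : Type v} [Group G] [MulAction G Ω] [Fintype Ω] [Fintype G]

namespace Hyp

variable (D : Hyp G Ω)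
include D

theorem iso_altSeven (hn : Fintype.card Ω = 7) : Nonempty (G ≃* ↥(alternatingGroup (Fin 7))) := by
  let φ := MulAction.toPermHom G Ω
  have hinj : Function.Injective φ := (injective_iff_map_eq_one φ).2 fun g hg =>
    D.faithful g fun x => Equiv.ext_iff.1 hg x
  have hG : Nat.card G = 2520 := by
    rw [D.card_G, Nat.card_eq_fintype_card (α := Ω), hn]
  have hr : φ.range.index = 2 := by
    have h := φ.range.card_mul_index
    rw [← Nat.card_congr (MonoidHom.ofInjective hinj).toEquiv, hG, Nat.card_perm,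
      Nat.card_eq_fintype_card, hn] at h
    simp [Nat.factorial] at h
    omega
  exact ⟨((MonoidHom.ofInjective hinj).trans
    (MulEquiv.subgroupCongr (Equiv.Perm.eq_alternatingGroup_of_index_eq_two hr))).trans
      (Equiv.altCongrHom (Fintype.equivFinOfCardEq hn))⟩

theorem isSimple_twelve (hnr : NoRegular G Ω) (hn : Nat.card Ω = 12) : IsSimpleGroup G := by
  haveI : Nontrivial G := Finite.one_lt_card_iff_nontrivial.1 (by rw [D.card_G, hn]; norm_num)
  refine ⟨fun N hN => ?_⟩
  by_cases hne : N = ⊥
  · exact Or.inl hne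
  right
  rcases D.normal_two_point (N := N) hN with h | h
  · exact (D.normal_not_free hnr hN hne h).elim
  obtain ⟨a, b, hab⟩ := D.nontriv
  set Na := N ⊓ stabilizer G a
  have hle : stabilizer G a ⊓ stabilizer G b ≤ Na := fun g hg => ⟨h a b hab g hg.1 hg.2, hg.1⟩
  have h60 := Subgroup.card_dvd_of_le hle
  rw [D.card_two_point hab] at h60
  have h660 : Nat.card Na ∣ 660 := by
    have := Subgroup.card_dvd_of_le (inf_le_right : Na ≤ stabilizer G a)
    rwa [D.card_stab a, hn] at this
  obtain ⟨m, hm⟩ := h60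
  have hm11 : m ∣ 11 := by
    rw [hm] at h660
    exact Nat.dvd_of_mul_dvd_mul_left (show 0 < 60 by norm_num) h660
  have hN := D.normal_card hN hne a
  rw [hn, show N ⊓ stabilizer G a = Na from rfl, hm] at hN
  rcases (Nat.dvd_prime (by norm_num : Nat.Prime 11)).1 hm11 with rfl | rfl
  · exfalso
    -- all two-point stabilizers of `a` coincide
    have heq : stabilizer G a ⊓ stabilizer G b = Na := Subgroup.eq_of_le_of_card_ge hle
      (by rw [hm, D.card_two_point hab])
    obtain ⟨t, ht, ht1⟩ := D.exists_T hab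
    refine ht1 (D.faithful t fun c => ?_)
    by_cases hca : a = c
    · rw [← hca]; exact ht.1
    have hlec : stabilizer G a ⊓ stabilizer G c ≤ Na := fun g hg => ⟨h a c hca g hg.1 hg.2, hg.1⟩
    have heqc : stabilizer G a ⊓ stabilizer G c = Na := Subgroup.eq_of_le_of_card_ge hlec
      (by rw [hm, D.card_two_point hca])
    have : t ∈ stabilizer G a ⊓ stabilizer G c := by rw [heqc, ← heq]; exact ⟨ht.1, ht.2.1⟩
    exact this.2
  · refine Subgroup.eq_top_of_card_eq N ?_
    rw [hN, D.card_G, hn]

theorem iso_M11 (hnr : NoRegular G Ω) (hn : Fintype.card Ω = 12) : Cfsg.Spor.IsoM11 G := by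
  have hn' : Nat.card Ω = 12 := by rw [Nat.card_eq_fintype_card, hn]
  haveI := D.isSimple_twelve hnr hn'
  haveI := CfsgLib.Golay.isSimple_M11
  exact CfsgLib.M11Uniq.nonempty_equiv (H := Cfsg.Spor.M11) CfsgLib.Golay.card_M11
    (by rw [D.card_G, hn'])

end Hyp

end CfsgLib.TwoPointA5
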