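import Cfsg.Agent.TwoPointA5.CaseJ
import Cfsg.Agent.TwoPointA5.Small

/-!
# The classification
-/

set_option autoImplicit false
set_option linter.unusedSectionVars false
set_option linter.style.haveILetI false

namespace CfsgLib.TwoPointA5

open MulAction Finset CfsgLib.TwoPointA4
open scoped Classical

universe u v

variable {G : Type u} {Ω : Type v} [Group G] [MulAction G Ω] [Fintype Ω] [Fintype G]

/-- Fifteen swaps: the ratio is `15 (e ^ 2 + 1) / (e + 1) ^ 2`. -/
theorem kc_fifteen {k : ℕ} (hk : 1 ≤ k) (h : KleinCases (15 + 15 * (2 ^ k * 2 ^ k)) ((2 ^ k + 1) ^ 2)) :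
    False := by
  by_cases h4 : 4 ≤ k
  · have h16 : 16 ≤ 2 ^ k := le_trans (by norm_num) (Nat.pow_le_pow_right (show 0 < 2 by norm_num) h4)
    generalize 2 ^ k = e at h h16
    exact kc_gap_high h (by positivity) (by nlinarith) (by
      have : (e + 1) ^ 2 = e * e + 2 * e + 1 := by ring
      omega)
  · interval_cases k <;> norm_num at h
    · exact kc_25 (k := 3) (by norm_num) h
    · exact kc_gap_mid h (by norm_num) (by norm_num) (by norm_num)
    · exact kc_975 (k := 1) (by norm_num) h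

/-- Sixteen swaps, two kernel swaps: the ratio is `(16 e ^ 2 + 15) / (e + 1) ^ 2`. -/
theorem kc_sixteen {k : ℕ} (hk : 1 ≤ k) (h : KleinCases (15 + 16 * (2 ^ k * 2 ^ k)) ((2 ^ k + 1) ^ 2)) :
    False := by
  by_cases h5 : 5 ≤ k
  · have h32 : 32 ≤ 2 ^ k := le_trans (by norm_num) (Nat.pow_le_pow_right (show 0 < 2 by norm_num) h5)
    generalize 2 ^ k = e at h h32
    have := kc_le h (by positivity)
    nlinarith
  · interval_cases k <;> norm_num at h
    · exact kc_79 (k := 1) (by norm_num) h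
    · exact kc_gap_mid h (by norm_num) (by norm_num) (by norm_num)
    · exact kc_gap_high h (by norm_num) (by norm_num) (by norm_num)
    · exact kc_gap_high h (by norm_num) (by norm_num) (by norm_num)

namespace Hyp

variable (D : Hyp G Ω)
include D

theorem even_pow_two {a b : Ω} (hab : a ≠ b) {J : G} (hJ : InV a b J) (hJ1 : J ≠ 1)
    (he : Even (FV J a b).card) : ∃ k, 1 ≤ k ∧ (FV J a b).card = 2 ^ k := by
  obtain ⟨p, k, hp, hk, hpk⟩ := D.isPrimePow_card_FV hab hJ hJ1
  rw [← hpk] at he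
  have hp2 : p = 2 := ((Nat.prime_dvd_prime_iff_eq Nat.prime_two hp.nat_prime).1
    (Nat.prime_two.dvd_of_dvd_pow (even_iff_two_dvd.1 he))).symm
  subst hp2
  exact ⟨k, hk, hpk.symm⟩

theorem kv_even_false (hK : KV G Ω) {a b : Ω} (hab : a ≠ b) {J : G} (hJ : InV a b J) (hJ1 : J ≠ 1)
    (hf : Even (fx (Ω := Ω) J).card) : False := by
  have hfe := D.kv_card hK hab hJ hJ1
  have h := D.point_formula hab hJ hJ1 hf (hfe ▸ hf)
  have he2 := D.two_le_card_FV hab J
  have hi : 0 < D.iCount a b * (fx (Ω := Ω) J).card :=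
    Nat.mul_pos (Nat.pos_of_ne_zero (D.iCount_pos hab (isT_of_inV hab hJ hJ1))) (by omega)
  rw [← hfe] at h
  have hpos : 0 < ((fx (Ω := Ω) J).card - 1) ^ 2 := pow_pos (by omega) 2
  have := Nat.le_of_mul_le_mul_right (kc_le h hpos) hpos
  omega

theorem ratio_sq {a b : Ω} (hab : a ≠ b) {J : G} (hJ : InV a b J) (hJ1 : J ≠ 1)
    (he : Even (FV J a b).card) (hf : (fx (Ω := Ω) J).card = (FV J a b).card * (FV J a b).card) :
    KleinCases (15 + D.iCount a b * ((FV J a b).card * (FV J a b).card)) (((FV J a b).card + 1) ^ 2) := by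
  have h := D.point_formula hab hJ hJ1 (by rw [hf]; exact he.mul_left _) he
  have he2 := D.two_le_card_FV hab J
  rw [hf] at h
  obtain ⟨q, hq⟩ : ∃ q, (FV J a b).card = q + 1 := ⟨_ - 1, (Nat.succ_pred_eq_of_pos (by omega)).symm⟩
  rw [hq, show (q + 1) * (q + 1) - 1 = q * (q + 2) from Nat.sub_eq_of_eq_add (by ring), Nat.add_sub_cancel] at h
  rw [hq]
  refine KleinCases.of_mul (k := q ^ 2) (pow_pos (by omega) 2) ?_
  rwa [mul_comm (q ^ 2) (15 + _), show q ^ 2 * (q + 1 + 1) ^ 2 = (q * (q + 2)) ^ 2 by ring]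

theorem four_false (hC : Central G Ω) (hK : ¬ KV G Ω) {a b : Ω} (hab : a ≠ b) (hi : D.iCount a b = 16)
    {J : G} (hJ : InV a b J) (hJ1 : J ≠ 1) {z : G} (hz : Swap a b z) (hzz : z * z = 1)
    (hzc : ∀ h : G, h • a = a → h • b = b → z * h = h * z) (hzT : IsT Ω z)
    (hj : jCount J a b = 2 ∨ jCount J a b = 4) : False := by
  rcases Nat.even_or_odd (FV J a b).card with he | he
  swap
  · rcases hj with hj | hj
    · exact D.caseJ_two hC hK hab hJ hJ1 he hz hzz hzc hzT hj
    · exact D.caseJ_four hC hK hab hJ hJ1 he hz hzz hzc hj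
  obtain ⟨k, hk, hek⟩ := D.even_pow_two hab hJ hJ1 he
  have hkse := D.kern_swap_equation (isT_of_inV hab hJ hJ1) hab (mem_fx.2 hJ.1) (mem_fx.2 hJ.2.1)
  have hlt := D.card_FV_lt hK hab hJ hJ1
  obtain ⟨q, hq⟩ : ∃ q, (FV J a b).card = q + 1 :=
    ⟨_ - 1, (Nat.succ_pred_eq_of_pos (by have := D.two_le_card_FV hab J; omega)).symm⟩
  rw [hq, Nat.add_sub_cancel] at hkse
  rcases hj with hj | hj <;> rw [hj] at hkse
  · have hf : (fx (Ω := Ω) J).card = (FV J a b).card * (FV J a b).card := by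
      rw [hq]
      have : (q + 1) * (q + 1) = (q + 1) * q + (q + 1) := by ring
      omega
    have h := D.ratio_sq hab hJ hJ1 he hf
    rw [hi, hek] at h
    exact kc_sixteen hk h
  · have hf : (fx (Ω := Ω) J).card = (q + 1) * (2 * q + 1) := by
      have : (q + 1) * (2 * q + 1) = 2 * ((q + 1) * q) + (q + 1) := by ring
      omega
    have h := D.point_formula hab hJ hJ1 (by rw [hf]; exact (hq ▸ he).mul_right _) he
    rw [hi, hf, hq, show (q + 1) * (2 * q + 1) - 1 = q * (2 * q + 3) from Nat.sub_eq_of_eq_add (by ring),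
      Nat.add_sub_cancel] at h
    have hq0 : 0 < q := by
      rcases Nat.eq_zero_or_pos q with rfl | h0
      · have := D.two_le_card_FV hab J; omega
      · exact h0
    exact kc_four (e := q + 1) (k := q ^ 2) (by omega) (pow_pos hq0 2) (by ring) (by ring) h

theorem fifteen_odd_false (hnr : NoRegular G Ω) (hC : Central G Ω) {a b : Ω} (hab : a ≠ b)
    (hi : D.iCount a b = 15) {J : G} (hJ : IsT Ω J) (hodd : Odd (fx (Ω := Ω) J).card) : False := by
  obtain ⟨z, hz⟩ := D.exists_isolated hab hC hi hJ hodd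
  have hO : Odd (Nat.card (Cfsg.oddCore G)) := CfsgLib.IsoApps.odd_oddCore
  haveI hOn : (Cfsg.oddCore G).Normal := CfsgLib.Solvable.pPrimeCore_normal 2
  rcases D.normal_two_point (N := Cfsg.oddCore G) hOn with h | h
  · refine D.normal_not_free hnr hOn (fun hbot => ?_) h
    -- the isolated involution would be central
    have hcen : ∀ g : G, g * z = z * g := fun g => by
      obtain ⟨o, ho, c, hc, rfl⟩ := CfsgLib.IsoApps.exists_mul hz g
      rw [hbot, Subgroup.mem_bot] at ho
      rw [ho, one_mul]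
      exact Subgroup.mem_centralizer_singleton_iff.1 hc
    have hn : (Subgroup.zpowers z).Normal := ⟨fun x hx g => by
      obtain ⟨i, rfl⟩ := Subgroup.mem_zpowers_iff.1 hx
      rw [(Commute.zpow_right (hcen g) i).eq, mul_inv_cancel_right]
      exact Subgroup.zpow_mem_zpowers z i⟩
    have hne : Subgroup.zpowers z ≠ ⊥ := fun e => by
      have := congrArg (fun H : Subgroup G => Nat.card H) e
      simp only [Nat.card_zpowers, Subgroup.card_bot, hz.1] at this
      omega
    have := D.normal_card hn hne a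
    rw [Nat.card_zpowers, hz.1] at this
    have hlt := D.fx_lt_card (Ω := Ω) hJ.2.1
    have h2 : 2 ≤ (fx (Ω := Ω) J).card := hJ.2.2
    have h1 : 1 ≤ Nat.card ↥(Subgroup.zpowers z ⊓ stabilizer G a) := Nat.card_pos
    have := Nat.mul_le_mul_left (Nat.card Ω) h1
    omega
  · obtain ⟨t, ht, ht1⟩ := D.exists_T hab
    have := Subgroup.orderOf_dvd_natCard _ (h a b hab t ht.1 ht.2.1)
    rw [orderOf_eq_prime (by rw [sq, ht.2.2]) ht1] at this
    exact (Nat.not_even_iff_odd.2 hO) (even_iff_two_dvd.2 this)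

theorem sym_cases_main (hnr : NoRegular G Ω) (hS : SymType G Ω) {a b : Ω} (hab : a ≠ b) :
    (Fintype.card Ω = 7 ∧ Nonempty (G ≃* ↥(alternatingGroup (Fin 7)))) ∨
      (Fintype.card Ω = 12 ∧ Cfsg.Spor.IsoM11 G) := by
  obtain ⟨J, hJ, hJ1⟩ := D.exists_T hab
  have hn := D.sym_card_omega hS hab (isT_of_inV hab hJ hJ1)
  rw [Nat.card_eq_fintype_card] at hn
  rcases Nat.even_or_odd (FV J a b).card with he | he
  · have he2 := D.sym_even_two hS hab hJ hJ1 he
    by_cases hK : KV G Ω
    · rw [D.kv_card hK hab hJ hJ1, he2] at hn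
      omega
    · rw [D.sym_f_eq hS hK hab hJ hJ1, he2] at hn
      exact Or.inr ⟨by omega, D.iso_M11 hnr (by omega)⟩
  · by_cases hK : KV G Ω
    · rw [D.odd_three hS hK hab hJ hJ1 (by rw [D.kv_card hK hab hJ hJ1]; exact he)] at hn
      exact Or.inl ⟨by omega, D.iso_altSeven (by omega)⟩
    · exact (D.sym_odd_false hS hK hab hJ hJ1 he).elim

theorem main (hnr : NoRegular G Ω) {a b : Ω} (hab : a ≠ b) :
    (Fintype.card Ω = 7 ∧ Nonempty (G ≃* ↥(alternatingGroup (Fin 7)))) ∨
      (Fintype.card Ω = 12 ∧ Cfsg.Spor.IsoM11 G) := by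
  rcases D.dichotomy with hC | hS
  swap
  · exact D.sym_cases_main hnr hS hab
  exfalso
  obtain ⟨J, hJ, hJ1⟩ := D.exists_T hab
  obtain ⟨v, hv, hv1, hvJ⟩ := D.exists_second hab hJ hJ1
  have hJT := isT_of_inV hab hJ hJ1
  obtain ⟨z, hz, hzz, hzc⟩ := hC a b hab
  have hci := D.central_iCount hab hz hzz hzc hv.1 hv1
  have hjc := D.jCount_even_sub hJT hab (mem_fx.2 hJ.1) (mem_fx.2 hJ.2.1) hz hzz hzc hv hv1 hvJ
  have hkz : z ∈ kern Ω J → IsT Ω z ∧ IsT Ω (z * v) := fun h =>
    ⟨D.kern_isT hJT h, D.central_isT_iff hab hzc hJ hJ1 hv.1 hv1 (D.kern_isT hJT (D.kern_mul hJT h))⟩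
  have hkv : z * v ∈ kern Ω J → IsT Ω (z * v) := D.kern_isT hJT
  have hjpos : ¬ KV G Ω → jCount J a b ≠ 0 := fun hK h0 => by
    have h := D.kern_swap_equation hJT hab (mem_fx.2 hJ.1) (mem_fx.2 hJ.2.1)
    have hlt := D.card_FV_lt hK hab hJ hJ1
    rw [h0, Nat.zero_mul] at h
    omega
  by_cases hA : IsT Ω z
  · rw [if_pos hA] at hci
    by_cases hK : KV G Ω
    · have hfe := D.kv_card hK hab hJ hJ1
      rcases Nat.even_or_odd (FV J a b).card with he | he
      · exact D.kv_even_false hK hab hJ hJ1 (hfe ▸ he)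
      · exact D.kv_odd_not_isT hK hab hz hzc hJ hJ1 he hA
    · by_cases hB : IsT Ω (z * v)
      · rw [if_pos hB] at hci
        refine D.four_false hC hK hab hci hJ hJ1 hz hzz hzc hA ?_
        have := hjpos hK
        rw [hjc] at this ⊢
        split_ifs at this ⊢ <;> simp at this ⊢
      · refine hjpos hK ?_
        rw [hjc, if_neg fun h => hB (hkz h).2, if_neg fun h => hB (hkv h)]
  · by_cases hB : IsT Ω (z * v)
    swap
    · rw [if_neg hA, if_neg hB] at hci
      exact absurd hci (D.iCount_pos hab hJT)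
    rw [if_neg hA, if_pos hB] at hci
    rcases Nat.even_or_odd (fx (Ω := Ω) J).card with hf | hf
    swap
    · exact D.fifteen_odd_false hnr hC hab hci hJT hf
    by_cases hK : KV G Ω
    · exact D.kv_even_false hK hab hJ hJ1 hf
    have hj : jCount J a b = 2 := by
      have := hjpos hK
      rw [hjc, if_neg fun h => hA (hkz h).1] at this ⊢
      split_ifs at this ⊢ <;> simp at this ⊢
    have h := D.kern_swap_equation hJT hab (mem_fx.2 hJ.1) (mem_fx.2 hJ.2.1)
    have hlt := D.card_FV_lt hK hab hJ hJ1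
    rw [hj] at h
    have hfe : (fx (Ω := Ω) J).card = (FV J a b).card * (FV J a b).card := by
      have h2 := Nat.mul_sub (FV J a b).card (FV J a b).card 1
      have h3 := Nat.le_mul_self (FV J a b).card
      rw [mul_one] at h2
      omega
    have he : Even (FV J a b).card := by
      rw [hfe] at hf
      exact (Nat.even_mul.1 hf).elim id id
    obtain ⟨k, hk, hek⟩ := D.even_pow_two hab hJ hJ1 he
    have hr := D.ratio_sq hab hJ hJ1 he hfe
    rw [hci, zero_add, hek] at hr
    exact kc_fifteen hk hr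

end Hyp

end CfsgLib.TwoPointA5
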