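import Mathlib.GroupTheory.SpecificGroups.Alternating

/-!
# Facts on `A₅` and `S₅`
-/

set_option autoImplicit false
set_option synthInstance.maxHeartbeats 400000
set_option synthInstance.maxSize 2000

namespace CfsgLib.TwoPointA5

abbrev A5 := alternatingGroup (Fin 5)

theorem alt5_card : Fintype.card A5 = 60 := by decide +kernel

theorem alt5_invol_card : (Finset.univ.filter fun g : A5 => g * g = 1).card = 16 := by
  decide +kernel

theorem alt5_cent_sq : ∀ g : A5, g * g = 1 → g ≠ 1 → ∀ h : A5, g * h = h * g → h * h = 1 := by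
  decide +kernel

theorem alt5_cent_comm : ∀ g : A5, g * g = 1 → g ≠ 1 → ∀ h : A5, g * h = h * g →
    ∀ k : A5, g * k = k * g → h * k = k * h := by
  decide +kernel

theorem alt5_cent_card : ∀ g : A5, g * g = 1 → g ≠ 1 →
    (Finset.univ.filter fun h : A5 => g * h = h * g).card = 4 := by
  decide +kernel

theorem alt5_conj : ∀ g : A5, g * g = 1 → g ≠ 1 → ∀ g' : A5, g' * g' = 1 → g' ≠ 1 →
    ∃ h, h * g * h⁻¹ = g' := by
  decide +kernel

theorem alt5_cycle : ∀ g : A5, g * g = 1 → g ≠ 1 → ∀ g' : A5, g * g' = g' * g → g' ≠ 1 → g' ≠ g →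
    ∃ h, h * g * h⁻¹ = g' ∧ h * g' * h⁻¹ = g * g' := by
  decide +kernel

theorem alt5_center : ∀ h : A5, (∀ g : A5, h * g = g * h) → h = 1 := by decide +kernel

theorem alt5_exists_invol : ∃ g : A5, g * g = 1 ∧ g ≠ 1 := by decide +kernel

theorem alt5_exists_second : ∀ g : A5, g * g = 1 → g ≠ 1 → ∃ g' : A5, g * g' = g' * g ∧ g' ≠ 1 ∧ g' ≠ g := by
  decide +kernel

/-- A transposition commuting with a given involution of `A₅`. -/
theorem s5_exists_transposition : ∀ j : A5, j * j = 1 → j ≠ 1 → ∃ a : Fin 5,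
    Equiv.Perm.sign (Equiv.swap a ((j : Equiv.Perm (Fin 5)) a)) = -1 ∧
      Equiv.swap a ((j : Equiv.Perm (Fin 5)) a) * j = j * Equiv.swap a ((j : Equiv.Perm (Fin 5)) a) ∧
      ∀ v : A5, j * v = v * j → v ≠ 1 → v ≠ j →
        Equiv.swap a ((j : Equiv.Perm (Fin 5)) a) * v * Equiv.swap a ((j : Equiv.Perm (Fin 5)) a) =
          (v : Equiv.Perm (Fin 5)) * j := by
  decide +kernel

/-- An odd involution commutes with three involutions of `A₅`. -/
theorem s5_odd_cent : ∀ t : Equiv.Perm (Fin 5), t * t = 1 → Equiv.Perm.sign t = -1 →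
    (Finset.univ.filter fun j : A5 => j ≠ 1 ∧ j * j = 1 ∧ t * j = j * t).card = 3 := by
  decide +kernel

end CfsgLib.TwoPointA5
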