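import Cfsg.Agent.TwoPointA4.Types
import Cfsg.Agent.TwoPointA4.Central
import Cfsg.Agent.TwoPointA5.Alt

/-!
# Two-transitive groups whose two-point stabilizers are isomorphic to `A₅`

Basic counting. The four-group belonging to a pair and an involution `J` fixing both points is the
centralizer of `J` in the two-point stabilizer.
-/

set_option autoImplicit false
set_option linter.unusedSectionVars false
set_option linter.style.haveILetI false

namespace CfsgLib.TwoPointA5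

open MulAction Finset CfsgLib.TwoPointA4
open scoped Classical

universe u v

variable (G : Type u) (Ω : Type v) [Group G] [MulAction G Ω]

/-- The hypotheses. -/
structure Hyp : Prop where
  trans : ∀ a b c d : Ω, a ≠ b → c ≠ d → ∃ g : G, g • a = c ∧ g • b = d
  faithful : ∀ g : G, (∀ x : Ω, g • x = x) → g = 1
  iso : ∀ a b : Ω, a ≠ b → Nonempty (↥(stabilizer G a ⊓ stabilizer G b) ≃* ↥A5)
  nontriv : ∃ a b : Ω, a ≠ b

variable {G Ω}

variable [Fintype Ω]

/-- `g` lies in the four-group belonging to `a`, `b` and `J`. -/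
def InJ (J : G) (a b : Ω) (g : G) : Prop := InV a b g ∧ g * J = J * g

theorem InJ.conj {J : G} {a b : Ω} {t : G} (ht : InJ J a b t) (g : G) :
    InJ (g * J * g⁻¹) (g • a) (g • b) (g * t * g⁻¹) :=
  ⟨ht.1.conj g, by rw [conj_mul, conj_mul, ht.2]⟩

theorem inJ_comm' {J : G} {a b : Ω} {g : G} : InJ J a b g ↔ InJ J b a g := by
  unfold InJ
  rw [inV_comm']

theorem inJ_self {J : G} {a b : Ω} (hJ : InV a b J) : InJ J a b J := ⟨hJ, rfl⟩

theorem inJ_one (J : G) (a b : Ω) : InJ J a b (1 : G) :=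
  ⟨⟨one_smul _ _, one_smul _ _, one_mul _⟩, by rw [one_mul, mul_one]⟩

namespace Hyp

variable (D : Hyp G Ω)
include D

theorem inJ_of_commute {a b : Ω} (hab : a ≠ b) {v g : G} (hv : InV a b v) (hv1 : v ≠ 1)
    (ha : g • a = a) (hb : g • b = b) (hc : v * g = g * v) : InJ v a b g := by
  obtain ⟨e⟩ := D.iso a b hab
  obtain ⟨hv', hv2⟩ := inV_iff_stab.1 hv
  have hg' : g ∈ stabilizer G a ⊓ stabilizer G b := ⟨ha, hb⟩
  have h := alt5_cent_sq (e ⟨v, hv'⟩) (by rw [← map_mul, ← map_one e]; exact congrArg e (Subtype.ext hv2))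
    (fun h => hv1 (congrArg Subtype.val (e.injective (h.trans (map_one e).symm))))
    (e ⟨g, hg'⟩) (by rw [← map_mul, ← map_mul]; exact congrArg e (Subtype.ext hc))
  rw [← map_mul, ← map_one e] at h
  exact ⟨⟨ha, hb, congrArg Subtype.val (e.injective h)⟩, hc.symm⟩

theorem inJ_mul {a b : Ω} (hab : a ≠ b) {J g h : G} (hJ : InV a b J) (hJ1 : J ≠ 1)
    (hg : InJ J a b g) (hh : InJ J a b h) : g * h = h * g ∧ InJ J a b (g * h) := by
  obtain ⟨e⟩ := D.iso a b hab
  obtain ⟨hJ', hJ2⟩ := inV_iff_stab.1 hJ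
  obtain ⟨hg', hg2⟩ := inV_iff_stab.1 hg.1
  obtain ⟨hh', hh2⟩ := inV_iff_stab.1 hh.1
  have hc : (⟨g, hg'⟩ * ⟨h, hh'⟩ : ↥(stabilizer G a ⊓ stabilizer G b)) = ⟨h, hh'⟩ * ⟨g, hg'⟩ :=
    e.injective (by
      rw [map_mul, map_mul]
      exact alt5_cent_comm (e ⟨J, hJ'⟩)
        (by rw [← map_mul, ← map_one e]; exact congrArg e (Subtype.ext hJ2))
        (fun h => hJ1 (congrArg Subtype.val (e.injective (h.trans (map_one e).symm))))
        _ (by rw [← map_mul, ← map_mul]; exact congrArg e (Subtype.ext hg.2.symm))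
        _ (by rw [← map_mul, ← map_mul]; exact congrArg e (Subtype.ext hh.2.symm)))
  have hc' : g * h = h * g := congrArg Subtype.val hc
  exact ⟨hc', D.inJ_of_commute hab hJ hJ1 (by rw [mul_smul, hh.1.1, hg.1.1])
    (by rw [mul_smul, hh.1.2.1, hg.1.2.1])
    ((show Commute J g from hg.2.symm).mul_right hh.2.symm).eq⟩

/-- The four-group does not depend on the choice of its involution. -/
theorem inJ_change {a b : Ω} (hab : a ≠ b) {J v g : G} (hJ : InV a b J) (hJ1 : J ≠ 1)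
    (hv : InJ J a b v) (hv1 : v ≠ 1) : InJ v a b g ↔ InJ J a b g :=
  ⟨fun hg => ⟨hg.1, (D.inJ_mul hab hv.1 hv1 hg ⟨hJ, hv.2.symm⟩).1⟩,
    fun hg => ⟨hg.1, (D.inJ_mul hab hJ hJ1 hg hv).1⟩⟩

theorem inV_conj_inV {a b : Ω} (hab : a ≠ b) {v w : G} (hv : InV a b v) (hv1 : v ≠ 1)
    (hw : InV a b w) (hw1 : w ≠ 1) : ∃ h : G, h • a = a ∧ h • b = b ∧ h * v * h⁻¹ = w := by
  obtain ⟨e⟩ := D.iso a b hab
  obtain ⟨hv', hv2⟩ := inV_iff_stab.1 hv
  obtain ⟨hw', hw2⟩ := inV_iff_stab.1 hw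
  obtain ⟨h, hh⟩ := alt5_conj (e ⟨v, hv'⟩)
    (by rw [← map_mul, ← map_one e]; exact congrArg e (Subtype.ext hv2))
    (fun h => hv1 (congrArg Subtype.val (e.injective (h.trans (map_one e).symm))))
    (e ⟨w, hw'⟩) (by rw [← map_mul, ← map_one e]; exact congrArg e (Subtype.ext hw2))
    (fun h => hw1 (congrArg Subtype.val (e.injective (h.trans (map_one e).symm))))
  refine ⟨(e.symm h : G), (e.symm h).2.1, (e.symm h).2.2, ?_⟩
  have := congrArg e.symm hh
  simp only [map_mul, map_inv, MulEquiv.symm_apply_apply] at this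
  exact congrArg Subtype.val this

theorem exists_cycle {a b : Ω} (hab : a ≠ b) {J v : G} (hJ : InV a b J) (hJ1 : J ≠ 1)
    (hv : InJ J a b v) (hv1 : v ≠ 1) (hvJ : v ≠ J) :
    ∃ h : G, h • a = a ∧ h • b = b ∧ h * J * h⁻¹ = v ∧ h * v * h⁻¹ = J * v := by
  obtain ⟨e⟩ := D.iso a b hab
  obtain ⟨hJ', hJ2⟩ := inV_iff_stab.1 hJ
  obtain ⟨hv', hv2⟩ := inV_iff_stab.1 hv.1
  obtain ⟨h, h1, h2⟩ := alt5_cycle (e ⟨J, hJ'⟩)
    (by rw [← map_mul, ← map_one e]; exact congrArg e (Subtype.ext hJ2))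
    (fun h => hJ1 (congrArg Subtype.val (e.injective (h.trans (map_one e).symm))))
    (e ⟨v, hv'⟩) (by rw [← map_mul, ← map_mul]; exact congrArg e (Subtype.ext hv.2.symm))
    (fun h => hv1 (congrArg Subtype.val (e.injective (h.trans (map_one e).symm))))
    (fun h => hvJ (congrArg Subtype.val (e.injective h)))
  refine ⟨(e.symm h : G), (e.symm h).2.1, (e.symm h).2.2, ?_, ?_⟩
  · have := congrArg e.symm h1
    simp only [map_mul, map_inv, MulEquiv.symm_apply_apply] at this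
    exact congrArg Subtype.val this
  · have := congrArg e.symm h2
    simp only [map_mul, map_inv, MulEquiv.symm_apply_apply] at this
    exact congrArg Subtype.val this

theorem two_point_center {a b : Ω} (hab : a ≠ b) {g : G} (ha : g • a = a) (hb : g • b = b)
    (hc : ∀ h : G, h • a = a → h • b = b → g * h = h * g) : g = 1 := by
  obtain ⟨e⟩ := D.iso a b hab
  have hg' : g ∈ stabilizer G a ⊓ stabilizer G b := ⟨ha, hb⟩
  have h := alt5_center (e ⟨g, hg'⟩) fun k => by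
    apply e.symm.injective
    simp only [map_mul, MulEquiv.symm_apply_apply]
    exact Subtype.ext (hc _ (e.symm k).2.1 (e.symm k).2.2)
  rw [MulEquiv.map_eq_one_iff] at h
  exact congrArg Subtype.val h

theorem exists_T {a b : Ω} (hab : a ≠ b) : ∃ t : G, InV a b t ∧ t ≠ 1 := by
  obtain ⟨e⟩ := D.iso a b hab
  obtain ⟨g, hgg, hg1⟩ := alt5_exists_invol
  refine ⟨(e.symm g : G), ⟨(e.symm g).2.1, (e.symm g).2.2, ?_⟩, fun h => hg1 ?_⟩
  · rw [← Subgroup.coe_mul, ← map_mul, hgg, map_one, Subgroup.coe_one]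
  · exact (MulEquiv.map_eq_one_iff e.symm).1 (Subtype.ext h)

theorem exists_second {a b : Ω} (hab : a ≠ b) {J : G} (hJ : InV a b J) (hJ1 : J ≠ 1) :
    ∃ v : G, InJ J a b v ∧ v ≠ 1 ∧ v ≠ J := by
  obtain ⟨e⟩ := D.iso a b hab
  obtain ⟨hJ', hJ2⟩ := inV_iff_stab.1 hJ
  obtain ⟨g, hc, hg1, hgJ⟩ := alt5_exists_second (e ⟨J, hJ'⟩)
    (by rw [← map_mul, ← map_one e]; exact congrArg e (Subtype.ext hJ2))
    (fun h => hJ1 (congrArg Subtype.val (e.injective (h.trans (map_one e).symm))))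
  refine ⟨(e.symm g : G), D.inJ_of_commute hab hJ hJ1 (e.symm g).2.1 (e.symm g).2.2 ?_,
    fun h => hg1 ((MulEquiv.map_eq_one_iff e.symm).1 (Subtype.ext h)), fun h => hgJ ?_⟩
  · have := congrArg e.symm hc
    simp only [map_mul, MulEquiv.symm_apply_apply] at this
    exact congrArg Subtype.val this
  · have : e.symm g = ⟨J, hJ'⟩ := Subtype.ext h
    exact (MulEquiv.symm_apply_eq e).1 this

/-- All involutions fixing two points are conjugate. -/
theorem isConj_T {s t : G} (hs : IsT Ω s) (ht : IsT Ω t) : IsConj s t := by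
  obtain ⟨a, ha, b, hb, hab⟩ := one_lt_card.1 hs.2.2
  obtain ⟨c, hc, d, hd, hcd⟩ := one_lt_card.1 ht.2.2
  obtain ⟨g, rfl, rfl⟩ := D.trans a b c d hab hcd
  have hv : InV a b s := ⟨mem_fx.1 ha, mem_fx.1 hb, hs.1⟩
  obtain ⟨h, -, -, hh⟩ := D.inV_conj_inV hcd (hv.conj g) (fun h => hs.2.1 (conj_eq_one_iff.1 h))
    (w := t) ⟨mem_fx.1 hc, mem_fx.1 hd, ht.1⟩ ht.2.1
  exact isConj_iff.2 ⟨h * g, by rw [← hh]; group⟩

theorem card_fx_T {s t : G} (hs : IsT Ω s) (ht : IsT Ω t) :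
    (fx (Ω := Ω) t).card = (fx (Ω := Ω) s).card := by
  obtain ⟨g, rfl⟩ := isConj_iff.1 (D.isConj_T hs ht)
  exact card_fx_conj g s

/-- Transitivity of the centralizer on the ordered pairs of fixed points. -/
theorem cent_trans {t : G} (ht : IsT Ω t) {a b c d : Ω} (ha : a ∈ fx t) (hb : b ∈ fx t) (hc : c ∈ fx t)
    (hd : d ∈ fx t) (hab : a ≠ b) (hcd : c ≠ d) :
    ∃ g : G, g * t = t * g ∧ g • a = c ∧ g • b = d := by
  obtain ⟨g, rfl, rfl⟩ := D.trans a b c d hab hcd
  have hv : InV a b t := ⟨mem_fx.1 ha, mem_fx.1 hb, ht.1⟩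
  obtain ⟨h, hhc, hhd, hh⟩ := D.inV_conj_inV hcd (hv.conj g) (fun h => ht.2.1 (conj_eq_one_iff.1 h))
    (w := t) ⟨mem_fx.1 hc, mem_fx.1 hd, ht.1⟩ ht.2.1
  refine ⟨h * g, ?_, by rw [mul_smul, hhc], by rw [mul_smul, hhd]⟩
  refine mul_inv_eq_iff_eq_mul.1 ?_
  rw [mul_inv_rev]
  calc h * g * t * (g⁻¹ * h⁻¹) = h * (g * t * g⁻¹) * h⁻¹ := by group
    _ = t := hh

variable [Fintype G]

theorem card_inJ {a b : Ω} (hab : a ≠ b) {J : G} (hJ : InV a b J) (hJ1 : J ≠ 1) :
    (univ.filter fun g : G => InJ J a b g).card = 4 := by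
  obtain ⟨e⟩ := D.iso a b hab
  obtain ⟨hJ', hJ2⟩ := inV_iff_stab.1 hJ
  rw [← alt5_cent_card (e ⟨J, hJ'⟩)
    (by rw [← map_mul, ← map_one e]; exact congrArg e (Subtype.ext hJ2))
    (fun h => hJ1 (congrArg Subtype.val (e.injective (h.trans (map_one e).symm))))]
  refine card_bij (fun g hg => e ⟨g, (inV_iff_stab.1 (mem_filter.1 hg).2.1).1⟩) (fun g hg => ?_)
    (fun g _ h _ he => congrArg Subtype.val (e.injective he)) fun k hk => ?_
  · refine mem_filter.2 ⟨mem_univ _, ?_⟩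
    rw [← map_mul, ← map_mul]
    exact congrArg e (Subtype.ext (mem_filter.1 hg).2.2.symm)
  · refine ⟨(e.symm k : G), mem_filter.2 ⟨mem_univ _,
      D.inJ_of_commute hab hJ hJ1 (e.symm k).2.1 (e.symm k).2.2 ?_⟩, by simp⟩
    have := congrArg e.symm (mem_filter.1 hk).2
    simp only [map_mul, MulEquiv.symm_apply_apply] at this
    exact congrArg Subtype.val this

theorem card_inV {a b : Ω} (hab : a ≠ b) : (univ.filter fun g : G => InV a b g).card = 16 := by
  obtain ⟨e⟩ := D.iso a b hab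
  rw [← alt5_invol_card]
  refine card_bij (fun g hg => e ⟨g, (inV_iff_stab.1 (mem_filter.1 hg).2).1⟩) (fun g hg => ?_)
    (fun g _ h _ he => congrArg Subtype.val (e.injective he)) fun k hk => ?_
  · refine mem_filter.2 ⟨mem_univ _, ?_⟩
    rw [← map_mul, ← map_one e]
    exact congrArg e (Subtype.ext (inV_iff_stab.1 (mem_filter.1 hg).2).2)
  · refine ⟨(e.symm k : G), mem_filter.2 ⟨mem_univ _, inV_iff_stab.2 ⟨(e.symm k).2, ?_⟩⟩, ?_⟩
    · rw [← Subgroup.coe_mul, ← map_mul, (mem_filter.1 hk).2, map_one, Subgroup.coe_one]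
    · simp

theorem card_two_point {a b : Ω} (hab : a ≠ b) :
    Nat.card ↥(stabilizer G a ⊓ stabilizer G b) = 60 := by
  obtain ⟨e⟩ := D.iso a b hab
  rw [Nat.card_congr e.toEquiv, Nat.card_eq_fintype_card, alt5_card]

theorem card_G : Nat.card G = 60 * (Nat.card Ω * (Nat.card Ω - 1)) := by
  obtain ⟨a, b, hab⟩ := D.nontriv
  have h := card_subgroup_pairs (⊤ : Subgroup G) univ (mem_univ a) (mem_univ b) hab
    (fun _ _ _ _ => mem_univ _) fun c _ d _ hcd => by
      obtain ⟨g, hg⟩ := D.trans a b c d hab hcd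
      exact ⟨g, Subgroup.mem_top g, hg⟩
  rw [Subgroup.card_top, top_inf_eq, D.card_two_point hab, card_univ, ← Nat.card_eq_fintype_card] at h
  rw [h, mul_comm]

theorem card_stab (a : Ω) : Nat.card (stabilizer G a) = 60 * (Nat.card Ω - 1) := by
  obtain ⟨p, q, hpq⟩ := D.nontriv
  obtain ⟨b, hb⟩ : ∃ b, a ≠ b := by
    by_cases h : a = p
    · exact ⟨q, h ▸ hpq⟩
    · exact ⟨p, h⟩
  have ht : orbit G a = Set.univ := Set.eq_univ_of_forall fun c => by
    obtain ⟨d, hd⟩ : ∃ d, c ≠ d := by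
      by_cases h : c = a
      · exact ⟨b, h ▸ hb⟩
      · exact ⟨a, h⟩
    obtain ⟨g, hg, -⟩ := D.trans a b c d hb hd
    exact ⟨g, hg⟩
  have h := Nat.card_congr (orbitProdStabilizerEquivGroup G a)
  rw [Nat.card_prod, ht, Nat.card_univ, D.card_G] at h
  have hn : 0 < Nat.card Ω := by
    rw [Nat.card_eq_fintype_card]; exact Fintype.card_pos_iff.2 ⟨a⟩
  exact Nat.eq_of_mul_eq_mul_left hn (h.trans (by ring))

theorem card_cent {t : G} (ht : IsT Ω t) : Nat.card (Subgroup.centralizer ({t} : Set G)) =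
    4 * ((fx (Ω := Ω) t).card * ((fx (Ω := Ω) t).card - 1)) := by
  obtain ⟨a, ha, b, hb, hab⟩ := one_lt_card.1 ht.2.2
  have hv : InV a b t := ⟨mem_fx.1 ha, mem_fx.1 hb, ht.1⟩
  rw [card_subgroup_pairs _ (fx (Ω := Ω) t) ha hb hab
    (fun g hg x hx => cent_preserves (Subgroup.mem_centralizer_singleton_iff.1 hg) hx)
    fun c hc d hd hcd => by
      obtain ⟨g, hg, h⟩ := D.cent_trans ht ha hb hc hd hab hcd
      exact ⟨g, Subgroup.mem_centralizer_singleton_iff.2 hg, h⟩, mul_comm]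
  congr 1
  rw [← D.card_inJ hab hv ht.2.1, ← Fintype.card_subtype, ← Nat.card_eq_fintype_card]
  refine Nat.card_congr (Equiv.subtypeEquivRight fun g => ?_)
  constructor
  · rintro ⟨hc, hga, hgb⟩
    exact D.inJ_of_commute hab hv ht.2.1 hga hgb (Subgroup.mem_centralizer_singleton_iff.1 hc).symm
  · intro hg
    exact ⟨Subgroup.mem_centralizer_singleton_iff.2 hg.2, hg.1.1, hg.1.2.1⟩

/-- The number of elements with a conjugation invariant property exchanging a given pair does not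
depend on the pair. -/
theorem card_swap_eq (Q : G → Prop) (hQ : ∀ g t, Q t → Q (g * t * g⁻¹)) {a b c d : Ω}
    (hab : a ≠ b) (hcd : c ≠ d) :
    (univ.filter fun t : G => Q t ∧ t • c = d).card = (univ.filter fun t : G => Q t ∧ t • a = b).card := by
  obtain ⟨g, rfl, rfl⟩ := D.trans a b c d hab hcd
  refine (card_bij (fun t _ => g * t * g⁻¹) (fun t ht => ?_)
    (fun _ _ _ _ h => mul_left_cancel (mul_right_cancel h)) fun t ht => ?_).symm
  · refine mem_filter.2 ⟨mem_univ _, hQ g t (mem_filter.1 ht).2.1, ?_⟩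
    rw [conj_smul, (mem_filter.1 ht).2.2]
  · refine ⟨g⁻¹ * t * g, mem_filter.2 ⟨mem_univ _, ?_, ?_⟩, by group⟩
    · simpa using hQ g⁻¹ t (mem_filter.1 ht).2.1
    · rw [mul_smul, mul_smul, (mem_filter.1 ht).2.2, inv_smul_smul]

theorem card_fix_eq (Q : G → Prop) (hQ : ∀ g t, Q t → Q (g * t * g⁻¹)) (a c : Ω) :
    (univ.filter fun t : G => Q t ∧ t • c = c).card = (univ.filter fun t : G => Q t ∧ t • a = a).card := by
  by_cases h : a = c
  · rw [h]
  obtain ⟨g, rfl, -⟩ := D.trans a c c a h (Ne.symm h)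
  refine (card_bij (fun t _ => g * t * g⁻¹) (fun t ht => ?_)
    (fun _ _ _ _ h => mul_left_cancel (mul_right_cancel h)) fun t ht => ?_).symm
  · refine mem_filter.2 ⟨mem_univ _, hQ g t (mem_filter.1 ht).2.1, ?_⟩
    rw [conj_smul, (mem_filter.1 ht).2.2]
  · refine ⟨g⁻¹ * t * g, mem_filter.2 ⟨mem_univ _, ?_, ?_⟩, by group⟩
    · simpa using hQ g⁻¹ t (mem_filter.1 ht).2.1
    · rw [mul_smul, mul_smul, (mem_filter.1 ht).2.2, inv_smul_smul]

theorem card_T {J : G} (hJ : IsT Ω J) :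
    (Tset G Ω).card * (4 * ((fx (Ω := Ω) J).card * ((fx (Ω := Ω) J).card - 1))) =
      60 * (Nat.card Ω * (Nat.card Ω - 1)) := by
  rw [← D.card_cent hJ, ← D.card_G]
  have hT : Tset G Ω = univ.filter (IsConj J) := by
    ext t
    rw [Tset, mem_filter, mem_filter]
    refine ⟨fun h => ⟨mem_univ _, D.isConj_T hJ h.2⟩, fun h => ?_⟩
    obtain ⟨g, rfl⟩ := isConj_iff.1 h.2
    exact ⟨mem_univ _, hJ.conj g⟩
  have hcl : (univ.filter (IsConj J)).card = (Subgroup.centralizer ({J} : Set G)).index := by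
    rw [Subgroup.centralizer_eq_comap_stabilizer]
    erw [Subgroup.index_comap_of_surjective _ (f := (ConjAct.toConjAct (G := G)).toMonoidHom)
      (ConjAct.toConjAct (G := G)).surjective]
    rw [index_stabilizer, ConjAct.orbit_eq_carrier_conjClasses, ← Set.ncard_coe_finset]
    congr 1
    ext e
    simp only [coe_filter, Finset.mem_univ, true_and, Set.mem_ofPred_eq,
      ConjClasses.mem_carrier_iff_mk_eq, ConjClasses.mk_eq_mk_iff_isConj]
    exact isConj_comm
  rw [hT, hcl, mul_comm, Subgroup.card_mul_index]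

/-- The number of involutions of the class exchanging two points. -/
noncomputable def iCount (_D : Hyp G Ω) (a b : Ω) : ℕ :=
  ((Tset G Ω).filter fun t => t • a = b).card

theorem iCount_eq {a b c d : Ω} (hab : a ≠ b) (hcd : c ≠ d) : D.iCount c d = D.iCount a b := by
  simp only [iCount, Tset, filter_filter]
  exact D.card_swap_eq (IsT Ω) (fun g t h => h.conj g) hab hcd

theorem mem_Tset {t : G} : t ∈ Tset G Ω ↔ IsT Ω t := by simp [Tset]

theorem fx_lt_card {t : G} (h1 : t ≠ 1) : (fx (Ω := Ω) t).card < Nat.card Ω := by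
  rw [Nat.card_eq_fintype_card]
  refine card_lt_univ_of_notMem (x := Classical.choose (not_forall.1 fun h => h1 (D.faithful t h))) ?_
  rw [mem_fx]
  exact Classical.choose_spec (not_forall.1 fun h => h1 (D.faithful t h))

theorem swap_equation {a b : Ω} (hab : a ≠ b) {J : G} (hJ : IsT Ω J) :
    15 * (Nat.card Ω - (fx (Ω := Ω) J).card) =
      D.iCount a b * ((fx (Ω := Ω) J).card * ((fx (Ω := Ω) J).card - 1)) := by
  set f := (fx (Ω := Ω) J).card with hf
  set n := Nat.card Ω with hn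
  have h1 : (Tset G Ω).card * (n - f) = (pairs Ω).card * D.iCount a b := by
    refine card_mul_eq_card_mul (fun (t : G) (p : Ω × Ω) => t • p.1 = p.2) (fun t ht => ?_) fun p hp => ?_
    · have ht' := D.mem_Tset.1 ht
      rw [hf, ← D.card_fx_T hJ ht', hn, Nat.card_eq_fintype_card, ← card_compl]
      refine card_bij (fun p _ => p.1) (fun p hp => ?_) (fun p hp q hq h => ?_) fun x hx => ?_
      · simp only [bipartiteAbove, mem_filter, mem_pairs] at hp
        rw [mem_compl, mem_fx, hp.2]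
        exact fun h => hp.1 h.symm
      · simp only [bipartiteAbove, mem_filter] at hp hq
        exact Prod.ext h (by rw [← hp.2, ← hq.2, h])
      · rw [mem_compl, mem_fx] at hx
        exact ⟨(x, t • x), by simp [bipartiteAbove, mem_pairs, Ne.symm hx], rfl⟩
    · rw [← D.iCount_eq hab (mem_pairs.1 hp)]
      rfl
  rw [card_pairs'] at h1
  have h2 := D.card_T hJ
  have hn2 : 2 ≤ n := by
    rw [hn, Nat.card_eq_fintype_card]
    obtain ⟨p, q, hpq⟩ := D.nontriv
    exact Fintype.one_lt_card_iff.2 ⟨p, q, hpq⟩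
  refine Nat.eq_of_mul_eq_mul_left (show 0 < 4 * (n * (n - 1)) from
    Nat.mul_pos (by norm_num) (Nat.mul_pos (by omega) (by omega))) ?_
  calc 4 * (n * (n - 1)) * (15 * (n - f)) = 60 * (n * (n - 1)) * (n - f) := by ring
    _ = (Tset G Ω).card * (n - f) * (4 * (f * (f - 1))) := by rw [← h2]; ring
    _ = _ := by rw [h1]; ring

theorem card_T_stab {J : G} (hJ : IsT Ω J) {a b : Ω} (hab : a ≠ b) (c : Ω) :
    ((Tset G Ω).filter fun t => t • c = c).card = 15 + D.iCount a b * (fx (Ω := Ω) J).card := by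
  set f := (fx (Ω := Ω) J).card with hf
  set n := Nat.card Ω with hn
  set Ta := ((Tset G Ω).filter fun t => t • c = c).card
  have h1 : (Tset G Ω).card * f = (univ : Finset Ω).card * Ta := by
    refine card_mul_eq_card_mul (fun (t : G) (x : Ω) => t • x = x) (fun t ht => ?_) fun x _ => ?_
    · rw [hf, ← D.card_fx_T hJ (D.mem_Tset.1 ht)]; rfl
    · simp only [bipartiteBelow, Ta, Tset, filter_filter]
      exact D.card_fix_eq (IsT Ω) (fun g t h => h.conj g) c x
  rw [card_univ, ← Nat.card_eq_fintype_card] at h1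
  have h2 := D.card_T hJ
  have h3 := D.swap_equation hab hJ
  have hf2 : 2 ≤ f := hJ.2.2
  have hlt : f < n := D.fx_lt_card hJ.2.1
  obtain ⟨k, hk⟩ : ∃ k, f = k + 2 := ⟨f - 2, by omega⟩
  obtain ⟨l, hl⟩ : ∃ l, n = f + l := ⟨n - f, by omega⟩
  rw [← hn] at h1
  rw [← hf, ← hn] at h2 h3
  rw [hl, hk] at h1 h2 h3
  rw [show k + 2 - 1 = k + 1 by omega] at h2 h3
  rw [show k + 2 + l - (k + 2) = l by omega] at h3
  rw [show k + 2 + l - 1 = k + 1 + l by omega] at h2
  rw [hk]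
  refine Nat.eq_of_mul_eq_mul_left (show 0 < 4 * (k + 1) * (k + 2 + l) by positivity) ?_
  calc 4 * (k + 1) * (k + 2 + l) * Ta = 4 * (k + 1) * ((k + 2 + l) * Ta) := by ring
    _ = (Tset G Ω).card * (4 * ((k + 2) * (k + 1))) := by rw [← h1]; ring
    _ = 4 * (k + 2 + l) * (15 * (k + 1) + 15 * l) := by rw [h2]; ring
    _ = _ := by rw [h3]; ring

/-- The order of a point stabilizer. -/
theorem card_stab' {J : G} (hJ : IsT Ω J) {a b : Ω} (hab : a ≠ b) :
    Nat.card (stabilizer G a) = 4 * ((fx (Ω := Ω) J).card - 1) *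
      (15 + D.iCount a b * (fx (Ω := Ω) J).card) := by
  rw [D.card_stab a]
  have h := D.swap_equation hab hJ
  have hlt := D.fx_lt_card (Ω := Ω) hJ.2.1
  have hf2 : 2 ≤ (fx (Ω := Ω) J).card := hJ.2.2
  set f := (fx (Ω := Ω) J).card
  obtain ⟨l, hl⟩ : ∃ l, Nat.card Ω = f + l := ⟨Nat.card Ω - f, by omega⟩
  obtain ⟨k, hk⟩ : ∃ k, f = k + 1 := ⟨f - 1, by omega⟩
  rw [hl, Nat.add_sub_cancel_left, show f - 1 = k by omega] at h
  rw [hl, show f + l - 1 = k + l by omega, show f - 1 = k by omega]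
  calc 60 * (k + l) = 4 * (15 * k + 15 * l) := by ring
    _ = _ := by rw [h]; ring

end Hyp

end CfsgLib.TwoPointA5
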