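import Cfsg.Agent.TwoPointA5.Sym
import Cfsg.Agent.S4482

/-!
# The symmetric type, all involutions of a four-group with the same odd number of fixed points
-/

set_option autoImplicit false
set_option linter.unusedSectionVars false
set_option linter.style.haveILetI false

namespace CfsgLib.TwoPointA5

open MulAction Finset CfsgLib.TwoPointA4
open scoped Classical Pointwise

universe u v

variable {G : Type u} {Ω : Type v} [Group G] [MulAction G Ω] [Fintype Ω] [Fintype G]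

theorem dio5 {F x δ : ℤ} (hF : 4 ≤ F) (hF4 : F % 4 = 0) (hx : 1 ≤ x) (hδ : δ = 1 ∨ δ = -1)
    (h : 5 * (4 * F ^ 2 - 1) * (x - δ) ^ 2 = 24 * x * (x + δ) * F ^ 2) : F = 4 := by
  have hF2 : 16 ≤ F ^ 2 := by nlinarith
  rcases hδ with rfl | rfl
  · nlinarith [mul_nonneg (show (0 : ℤ) ≤ F ^ 2 by positivity) (sq_nonneg (x - 1)),
      mul_le_mul_of_nonneg_right hx (show (0 : ℤ) ≤ F ^ 2 by positivity), sq_nonneg (x - 1)]
  · rcases (by omega : F = 4 ∨ 8 ≤ F) with h4 | h8
    · exact h4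
    exfalso
    have h64 : 64 ≤ F ^ 2 := by nlinarith
    have hx16 : x ≤ 16 := by
      by_contra hc
      push Not at hc
      nlinarith [mul_le_mul_of_nonneg_left (show 17 * x ≤ x * x by nlinarith) (show (0 : ℤ) ≤ F ^ 2 by positivity)]
    interval_cases x <;> omega

namespace Hyp

variable (D : Hyp G Ω)
include D

/-- The index of the centralizer of an involution. -/
theorem sym_index (hS : SymType G Ω) {a b : Ω} (hab : a ≠ b) {J : G} (hJ : InV a b J) (hJ1 : J ≠ 1)
    {q : ℕ} (hq : (fx (Ω := Ω) J).card = q + 1) :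
    ∃ T, Nat.card G = 4 * ((q + 1) * q) * T ∧ 3 * T = 5 * ((2 * q + 3) * (2 * q + 5)) := by
  have hJT := isT_of_inV hab hJ hJ1
  have hn := D.sym_card_omega hS hab hJT
  have hq1 : 0 < q := by
    have h2 : 2 ≤ (fx (Ω := Ω) J).card := hJT.2.2
    omega
  rw [hq, Nat.add_sub_cancel] at hn
  have hC := D.card_cent hJT
  rw [hq, Nat.add_sub_cancel] at hC
  refine ⟨(Subgroup.centralizer ({J} : Set G)).index, by rw [← hC, Subgroup.card_mul_index], ?_⟩
  have h := Subgroup.card_mul_index (Subgroup.centralizer ({J} : Set G))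
  rw [hC, D.card_G] at h
  obtain ⟨m, hm⟩ : ∃ m, Nat.card Ω = m + 1 := ⟨Nat.card Ω - 1, by omega⟩
  rw [hm] at hn h
  rw [show m + 1 - 1 = m by omega] at h
  refine Nat.eq_of_mul_eq_mul_left (show 0 < 4 * ((q + 1) * q) by positivity) ?_
  have e1 : 3 * (m + 1) = (q + 1) * (2 * q + 3) := by linarith
  have e2 : 3 * m = q * (2 * q + 5) := by linarith
  calc 4 * ((q + 1) * q) * (3 * (Subgroup.centralizer ({J} : Set G)).index)
      = 3 * (60 * ((m + 1) * m)) := by rw [← h]; ring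
    _ = 20 * ((3 * (m + 1)) * (3 * m)) := by ring
    _ = _ := by rw [e1, e2]; ring

theorem odd_three (hS : SymType G Ω) (hK : KV G Ω) {a b : Ω} (hab : a ≠ b) {J : G} (hJ : InV a b J)
    (hJ1 : J ≠ 1) (hodd : Odd (fx (Ω := Ω) J).card) : (fx (Ω := Ω) J).card = 3 := by
  haveI : Fact (Nat.Prime 2) := ⟨Nat.prime_two⟩
  have hJT := isT_of_inV hab hJ hJ1
  obtain ⟨u, hu, huu, huJ, huV⟩ := D.sym_exists hS hab hJ hJ1
  obtain ⟨v, hv, hv1, hvJ⟩ := D.exists_second hab hJ hJ1
  have huv := huV v hv hv1 hvJ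
  have hvJV := (D.inJ_mul hab hJ hJ1 hv (inJ_self hJ)).2
  have hvj := hv.2
  have hvJ1 : v * J ≠ 1 := fun e => hvJ (mul_right_cancel (e.trans hJ.2.2.symm))
  have hui : u⁻¹ = u := inv_eq_of_mul_eq_one_right huu
  have hvi : v⁻¹ = v := inv_eq_of_mul_eq_one_right hv.1.2.2
  have hu1 : u ≠ 1 := hu.ne_one hab
  set f := (fx (Ω := Ω) J).card with hf
  have hFe : fx (Ω := Ω) J = FV J a b := hK a b hab J hJ hJ1
  have hef : (FV J a b).card = f := by rw [hf, hFe]
  have hf4 : f % 4 = 3 := hef ▸ D.sym_odd_mod_four hS hab hJ hJ1 (hef.symm ▸ hodd)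
  have hn := D.sym_card_omega hS hab hJT
  rw [← hf] at hn
  obtain ⟨q, hq⟩ : ∃ q, f = q + 1 := ⟨f - 1, by omega⟩
  obtain ⟨T, hG, hT⟩ := D.sym_index hS hab hJ hJ1 (q := q) (by rw [← hf, hq])
  -- the Sylow subgroup
  set A := fourJ D hab hJ hJ1
  set P0 := Subgroup.zpowers u ⊔ A
  have huA : Subgroup.zpowers u ≤ Subgroup.normalizer (A : Set G) := by
    rw [Subgroup.zpowers_le, Subgroup.mem_normalizer_iff]
    intro w
    refine ⟨fun hw => InJ.swap_conj hw hu huJ, fun hw => ?_⟩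
    have : InJ J a b (u⁻¹ * (u * w * u⁻¹) * u⁻¹⁻¹) := InJ.swap_conj hw hu.inv (by rw [hui]; exact huJ)
    rwa [show u⁻¹ * (u * w * u⁻¹) * u⁻¹⁻¹ = w by group] at this
  have huo : orderOf u = 2 := orderOf_eq_prime (by rw [sq, huu]) hu1
  have hP8 : Nat.card P0 = 8 := by
    have h := CfsgLib.Factor.card_mul_set (Subgroup.zpowers u) A
    rw [← Subgroup.coe_mul_of_left_le_normalizer_right _ _ huA,
      show Subgroup.zpowers u ⊓ A = ⊥ from ?_, Subgroup.card_bot, mul_one, Nat.card_zpowers, huo,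
      card_fourJ] at h
    · exact h
    refine eq_bot_iff.2 fun g hg => ?_
    obtain ⟨hg1, hg2⟩ := Subgroup.mem_inf.1 hg
    obtain ⟨i, rfl⟩ := Subgroup.mem_zpowers_iff.1 hg1
    rcases Int.even_or_odd i with ⟨j, rfl⟩ | ⟨j, rfl⟩
    · rw [Subgroup.mem_bot, ← two_mul, zpow_mul, zpow_two, huu, one_zpow]
    · exfalso
      rw [zpow_add, zpow_mul, zpow_two, huu, one_zpow, one_mul, zpow_one] at hg2
      exact hab ((show InJ J a b u from hg2).1.1.symm.trans hu.1)
  have hfac : Nat.card P0 = 2 ^ (Nat.card G).factorization 2 := by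
    obtain ⟨r, hr⟩ : ∃ r, q = 4 * r + 2 := ⟨q / 4, by omega⟩
    have hTodd : ¬ 2 ∣ T := fun ⟨w, hw⟩ => by
      have : (3 * T) % 2 = (5 * ((2 * q + 3) * (2 * q + 5))) % 2 := by rw [hT]
      rw [hw] at this
      simp [Nat.mul_mod, Nat.add_mod] at this
    have hne : ¬ 2 ∣ (q + 1) * (2 * r + 1) * T := fun h => by
      rcases Nat.prime_two.dvd_mul.1 h with h | h
      · rcases Nat.prime_two.dvd_mul.1 h with h | h <;> omega
      · exact hTodd h
    rw [hP8, hG, show 4 * ((q + 1) * q) * T = 2 ^ 3 * ((q + 1) * (2 * r + 1) * T) by rw [hr]; ring,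
      Nat.factorization_mul (by norm_num) (fun h : (q + 1) * (2 * r + 1) * T = 0 => hne (by rw [h]; exact dvd_zero 2)),
      Finsupp.add_apply,
      Nat.prime_two.factorization_pow, Finsupp.single_eq_same,
      Nat.factorization_eq_zero_of_not_dvd hne, add_zero]
    norm_num
  let P : Sylow 2 G := Sylow.ofCard P0 hfac
  have hPcoe : (P : Subgroup G) = P0 := by simp [P]
  have huP : u ∈ (P : Subgroup G) := by rw [hPcoe]; exact Subgroup.mem_sup_left (Subgroup.mem_zpowers u)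
  have hAP : ∀ w, InJ J a b w → w ∈ (P : Subgroup G) := fun w hw => by
    rw [hPcoe]; exact Subgroup.mem_sup_right hw
  set σ := u * v with hσ
  have hσ2 : σ ^ 2 = J := by
    rw [sq]
    exact (D.sym_cases hab hJ hJ1 hv hv1 hvJ hu huu huJ huv (hu.mul_right hv.1.1 hv.1.2.1)
      (Commute.mul_left huJ hvj).eq).2.2 (Or.inl rfl)
  have hσ4 : orderOf σ = 2 ^ (3 - 1) := by
    have : orderOf σ = 2 ^ (1 + 1) := by
      refine orderOf_eq_prime_pow (by rw [pow_one, hσ2]; exact hJ1) ?_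
      rw [show (2 : ℕ) ^ (1 + 1) = 2 * 2 by norm_num, pow_mul, hσ2, sq, hJ.2.2]
    simpa using this
  have hrel : u * σ * u⁻¹ = σ⁻¹ := by
    rw [hσ, mul_inv_rev, hvi, hui, ← mul_assoc u u, huu, one_mul]
  have hστ : σ * u = v * J := by rw [hσ, huv]
  have hgen : Subgroup.closure ({σ, u} : Set G) = (P : Subgroup G) := by
    refine le_antisymm ((Subgroup.closure_le _).2 ?_) ?_
    · rintro g (rfl | rfl)
      exacts [mul_mem huP (hAP v hv), huP]
    · rw [hPcoe]
      have h1 : u ∈ Subgroup.closure ({σ, u} : Set G) := Subgroup.subset_closure (by simp)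
      have h2 : σ ∈ Subgroup.closure ({σ, u} : Set G) := Subgroup.subset_closure (by simp)
      have h3 : v ∈ Subgroup.closure ({σ, u} : Set G) := by
        rw [show v = u⁻¹ * σ by rw [hσ, inv_mul_cancel_left]]
        exact mul_mem (inv_mem h1) h2
      have h4 : J ∈ Subgroup.closure ({σ, u} : Set G) := hσ2 ▸ pow_mem h2 2
      refine sup_le (Subgroup.zpowers_le.2 h1) fun w hw => ?_
      rcases D.inJ_cases hab hJ hJ1 hv hv1 hvJ hw with rfl | rfl | rfl | rfl
      exacts [one_mem _, h4, h3, mul_mem h3 h4]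
  -- centralizers
  have hC : Nat.card (Subgroup.centralizer ({σ ^ 2 ^ (3 - 2)} : Set G)) = 4 * (f * (f - 1)) := by
    rw [show 2 ^ (3 - 2) = 2 by norm_num, hσ2, D.card_cent hJT]
  have hCJ : Subgroup.centralizer ({J} : Set G) = normV J a b := by
    refine le_antisymm (fun g hg => ⟨hg, mem_setStab_of_maps fun x hx => ?_⟩) inf_le_left
    rw [← hFe] at hx ⊢
    exact cent_preserves (Subgroup.mem_centralizer_singleton_iff.1 hg) hx
  have hconjv : ∀ g ∈ Subgroup.centralizer ({J} : Set G), InJ J a b (g * v * g⁻¹) := fun g hg =>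
    D.normV_inJ_conj hab hJ hJ1 (hCJ ▸ hg : g ∈ normV J a b) hv
  have hpair_card : ∀ w : G, Nat.card (Subgroup.centralizer ({σ ^ 2 ^ (3 - 2), w} : Set G)) =
      Nat.card ↥(Subgroup.centralizer ({J} : Set G) ⊓ Subgroup.centralizer ({w} : Set G)) := by
    intro w
    rw [show 2 ^ (3 - 2) = 2 by norm_num, hσ2]
    congr 2
    ext g
    simp [Subgroup.mem_centralizer_iff, Subgroup.mem_inf]
  have hC2 : 2 * Nat.card (Subgroup.centralizer ({σ ^ 2 ^ (3 - 2), σ * u} : Set G)) = 4 * (f * (f - 1)) := by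
    rw [hpair_card, hστ, ← D.card_cent hJT]
    have hc2 : ({v, v * J} : Finset G).card = 2 := card_pair fun e => hJ1 (mul_eq_left.1 e.symm)
    have hvjj : v * J * J = v := by rw [mul_assoc, hJ.2.2, mul_one]
    have hJu : u * (v * J) * u⁻¹ = v := by
      calc u * (v * J) * u⁻¹ = (u * v * u) * J := by
            rw [hui, mul_assoc u (v * J) u, mul_assoc v J u, ← huJ]; group
        _ = v := by rw [huv, hvjj]
    rw [card_cent_orbit (Subgroup.centralizer ({J} : Set G)) (v * J) {v, v * J} fun y => ?_, hc2]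
    constructor
    · intro hy
      simp only [mem_insert, mem_singleton] at hy
      rcases hy with rfl | rfl
      · exact ⟨u, Subgroup.mem_centralizer_singleton_iff.2 huJ, hJu⟩
      · exact ⟨1, one_mem _, by group⟩
    · rintro ⟨g, hg, rfl⟩
      have hgJ := Subgroup.mem_centralizer_singleton_iff.1 hg
      have e : g * (v * J) * g⁻¹ = g * v * g⁻¹ * J := by
        rw [show g * (v * J) * g⁻¹ = g * v * g⁻¹ * (g * J * g⁻¹) by group, hgJ, mul_inv_cancel_right]
      rw [e]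
      simp only [mem_insert, mem_singleton]
      rcases D.inJ_cases hab hJ hJ1 hv hv1 hvJ (hconjv g hg) with h | h | h | h
      · exact absurd (conj_eq_one_iff.1 h) hv1
      · refine absurd ?_ hvJ
        have : g * v * g⁻¹ = g * J * g⁻¹ := by rw [h, hgJ, mul_inv_cancel_right]
        exact mul_left_cancel (mul_right_cancel this)
      · exact Or.inr (by rw [h])
      · exact Or.inl (by rw [h, hvjj])
  -- the involutions exchanging two fixed points of `J`
  let U : Finset G := univ.filter fun g => g * g = 1 ∧ g * J = J * g ∧ ¬ InJ J a b g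
  have hmemU : ∀ g, g ∈ U ↔ g * g = 1 ∧ g * J = J * g ∧ ¬ InJ J a b g := fun g => by simp [U]
  have hUfix : ∀ g ∈ U, (fx (Ω := Ω) J ∩ fx g).card = 1 := by
    intro g hg
    obtain ⟨hgg, hgJ, hgV⟩ := (hmemU g).1 hg
    have hle : ¬ 2 ≤ (fx (Ω := Ω) J ∩ fx g).card := fun h => by
      obtain ⟨c, hc, d, hd, hcd⟩ := one_lt_card.1 h
      refine hgV ((D.inJ_iff_of_mem hab hJ hJ1 (hFe ▸ (mem_inter.1 hc).1) (hFe ▸ (mem_inter.1 hd).1) hcd).1
        ⟨⟨mem_fx.1 (mem_inter.1 hc).2, mem_fx.1 (mem_inter.1 hd).2, hgg⟩, hgJ⟩)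
    have h2 : (fx (Ω := Ω) J ∩ fx g).card % 2 = f % 2 :=
      card_inter_fx_mod_two g _ (fun x hx => cent_preserves hgJ hx) fun x _ => by
        rw [smul_smul, hgg, one_smul]
    obtain ⟨m, hm⟩ := hodd
    omega
  have hswap : ∀ {c d : Ω}, c ∈ fx J → d ∈ fx J → c ≠ d → ∃ k : G, k * J = J * k ∧ k • a = c ∧ k • b = d :=
    fun hc hd hcd => D.cent_trans hJT (mem_fx.2 hJ.1) (mem_fx.2 hJ.2.1) hc hd hab hcd
  have huU : ∀ k : G, k * J = J * k → k * u * k⁻¹ ∈ U ∧ k * u * k⁻¹ * J ∈ U := by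
    intro k hk
    have hk' : k * J * k⁻¹ = J := by rw [hk, mul_inv_cancel_right]
    have h1 : k * u * k⁻¹ * (k * u * k⁻¹) = 1 := by rw [conj_mul, huu]; group
    have h2 : k * u * k⁻¹ * J = J * (k * u * k⁻¹) := by
      conv_lhs => rw [← hk', conj_mul, huJ, ← conj_mul, hk']
    have h3 : ¬ InJ J a b (k * u * k⁻¹) := fun h => by
      have hkn : k ∈ normV J a b := hCJ ▸ (Subgroup.mem_centralizer_singleton_iff.2 hk)
      have e := (D.normV_inJ_conj hab hJ hJ1 (inv_mem hkn) h).1.1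
      rw [show k⁻¹ * (k * u * k⁻¹) * k⁻¹⁻¹ = u by group, hu.1] at e
      exact hab e.symm
    refine ⟨(hmemU _).2 ⟨h1, h2, h3⟩, (hmemU _).2 ⟨?_, ?_, fun h => h3 ?_⟩⟩
    · calc k * u * k⁻¹ * J * (k * u * k⁻¹ * J) = k * u * k⁻¹ * (J * (k * u * k⁻¹)) * J := by group
        _ = k * u * k⁻¹ * (k * u * k⁻¹) * (J * J) := by rw [← h2]; group
        _ = 1 := by rw [h1, hJ.2.2, mul_one]
    · calc k * u * k⁻¹ * J * J = J * (k * u * k⁻¹) * J := by rw [h2]
        _ = J * (k * u * k⁻¹ * J) := by group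
    · have := (D.inJ_mul hab hJ hJ1 h (inJ_self hJ)).2
      rwa [mul_assoc, hJ.2.2, mul_one] at this
  have hUpair : ∀ c ∈ fx (Ω := Ω) J, ∀ d ∈ fx (Ω := Ω) J, c ≠ d → ∀ k : G, k * J = J * k → k • a = c →
      k • b = d → U.filter (fun g => g • c = d) = {k * u * k⁻¹, k * u * k⁻¹ * J} := by
    intro c hc d hd hcd k hk hkc hkd
    have hk' : k * J * k⁻¹ = J := by rw [hk, mul_inv_cancel_right]
    ext g
    simp only [mem_filter, mem_insert, mem_singleton]
    constructor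
    · rintro ⟨hg, hgc⟩
      obtain ⟨hgg, hgJ, -⟩ := (hmemU g).1 hg
      have hs : Swap a b (k⁻¹ * g * k) := by
        have := (swap_of_invol hgg hgc).conj k⁻¹
        rwa [inv_inv, ← hkc, ← hkd, inv_smul_smul, inv_smul_smul] at this
      have hsJ : k⁻¹ * g * k * J = J * (k⁻¹ * g * k) := by
        calc k⁻¹ * g * k * J = k⁻¹ * g * (k * J) := by group
          _ = k⁻¹ * (g * J) * k := by rw [hk]; group
          _ = (k⁻¹ * J) * g * k := by rw [hgJ]; group
          _ = J * (k⁻¹ * g * k) := by rw [(Commute.inv_left hk).eq]; group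
      rcases (D.sym_cases hab hJ hJ1 hv hv1 hvJ hu huu huJ huv hs hsJ).2.1 (by
        calc k⁻¹ * g * k * (k⁻¹ * g * k) = k⁻¹ * (g * g) * k := by group
          _ = 1 := by rw [hgg]; group) with e | e
      · exact Or.inl (by rw [← e]; group)
      · refine Or.inr ?_
        calc g = k * (u * J) * k⁻¹ := by rw [← e]; group
          _ = k * u * k⁻¹ * (k * J * k⁻¹) := by group
          _ = _ := by rw [hk']
    · rintro (rfl | rfl)
      · exact ⟨(huU k hk).1, by rw [← hkc, conj_smul, hu.1, hkd]⟩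
      · exact ⟨(huU k hk).2, by rw [mul_smul, mem_fx.1 hc, ← hkc, conj_smul, hu.1, hkd]⟩
  have hUcard : U.card = 2 * f := by
    have h : U.card * (f - 1) = f * (f - 1) * 2 := by
      rw [hf, ← card_pairs_of (fx (Ω := Ω) J)]
      refine card_mul_eq_card_mul (fun (g : G) (p : Ω × Ω) => g • p.1 = p.2) (fun g hg => ?_) fun p hp => ?_
      · have hgJ := ((hmemU g).1 hg).2.1
        have hc1 : (fx (Ω := Ω) J \ fx g).card = f - 1 := by
          rw [card_sdiff, inter_comm, hUfix g hg]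
        rw [← hf, ← hc1]
        refine card_bij (fun p _ => p.1) (fun p hp => ?_) (fun p hp q hq h => ?_) fun x hx => ?_
        · simp only [bipartiteAbove, mem_filter, mem_product] at hp
          obtain ⟨⟨⟨h1, -⟩, hne⟩, hgp⟩ := hp
          refine mem_sdiff.2 ⟨h1, fun h => hne ?_⟩
          rw [← hgp, mem_fx.1 h]
        · simp only [bipartiteAbove, mem_filter] at hp hq
          exact Prod.ext h (by rw [← hp.2, ← hq.2, h])
        · obtain ⟨hx1, hx2⟩ := mem_sdiff.1 hx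
          refine ⟨(x, g • x), ?_, rfl⟩
          simp only [bipartiteAbove, mem_filter, mem_product, and_true]
          exact ⟨⟨hx1, cent_preserves hgJ hx1⟩, fun e => hx2 (mem_fx.2 e.symm)⟩
      · simp only [mem_filter, mem_product] at hp
        obtain ⟨k, hk, hkc, hkd⟩ := hswap hp.1.1 hp.1.2 hp.2
        show (U.filter fun g => g • p.1 = p.2).card = 2
        rw [hUpair p.1 hp.1.1 p.2 hp.1.2 hp.2 k hk hkc hkd]
        exact card_pair fun e => hJ1 (mul_eq_left.1 e.symm)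
    exact Nat.eq_of_mul_eq_mul_right (show 0 < f - 1 by omega) (h.trans (by ring))
  have hC1 : 2 * f * Nat.card (Subgroup.centralizer ({σ ^ 2 ^ (3 - 2), u} : Set G)) = 4 * (f * (f - 1)) := by
    rw [hpair_card, ← D.card_cent hJT, ← hUcard]
    refine (card_cent_orbit _ u U fun g => ⟨fun hg => ?_, ?_⟩).symm
    · obtain ⟨hgg, hgJ, -⟩ := (hmemU g).1 hg
      obtain ⟨c, hc⟩ : ∃ c, c ∈ fx (Ω := Ω) J \ fx g := card_pos.1 (by
        rw [card_sdiff, inter_comm, hUfix g hg, ← hf]; omega)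
      obtain ⟨hc1, hc2⟩ := mem_sdiff.1 hc
      have hd : g • c ∈ fx J := cent_preserves hgJ hc1
      have hcd : c ≠ g • c := fun e => hc2 (mem_fx.2 e.symm)
      obtain ⟨k, hk, hkc, hkd⟩ := hswap hc1 hd hcd
      have : g ∈ ({k * u * k⁻¹, k * u * k⁻¹ * J} : Finset G) := by
        rw [← hUpair c hc1 _ hd hcd k hk hkc hkd]
        exact mem_filter.2 ⟨hg, rfl⟩
      rcases mem_insert.1 this with e | e
      · exact ⟨k, Subgroup.mem_centralizer_singleton_iff.2 hk, e.symm⟩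
      · rw [mem_singleton] at e
        refine ⟨k * v, Subgroup.mem_centralizer_singleton_iff.2 (Commute.mul_left hk hvj).eq, ?_⟩
        have hvuv : v * u * v = u * J := by
          calc v * u * v = u * (u * v * u) * v := by simp only [← mul_assoc, huu, one_mul]
            _ = u * (v * J * v) := by rw [huv]; group
            _ = u * J := by rw [hvj, mul_assoc, hv.1.2.2, mul_one]
        calc k * v * u * (k * v)⁻¹ = k * (v * u * v) * k⁻¹ := by rw [mul_inv_rev, hvi]; group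
          _ = k * u * (J * k⁻¹) := by rw [hvuv]; group
          _ = k * u * k⁻¹ * J := by rw [← (Commute.inv_left hk).eq]; group
          _ = g := e.symm
    · rintro ⟨k, hk, rfl⟩
      exact (huU k (Subgroup.mem_centralizer_singleton_iff.1 hk)).1
  -- the character degree
  obtain ⟨M, hM⟩ := CfsgLib.Block.exists_isPModular Nat.prime_two
  haveI := hM.2.1.isPrime
  letI := CfsgLib.Block.Chr.irrFintype (G := G)
  obtain ⟨ζ, hζ⟩ : ∃ ζ : ℂ, IsPrimitiveRoot ζ (2 ^ (3 - 1)) :=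
    ⟨_, Complex.isPrimitiveRoot_exp _ (by positivity)⟩
  have hσP : σ ∈ (P : Subgroup G) := mul_mem huP (hAP v hv)
  have Dd := CfsgLib.DihPrincipal.data_of_closure (le_refl 3) hσP huP hσ4 huo hrel hgen
  obtain ⟨χ₁, χ₂, χ₃, χ', δ₁, δ₂, δ₃, e1, -, -, -, n1, -, -, -, -, -, -, hB, hval, -, -⟩ :=
    Dd.exists_table hM hζ
  have hχ : χ₁ ∈ Cfsg.principalBlock M G := by rw [hB]; exact Or.inr (Or.inl rfl)
  have hconj : IsConj (σ ^ (2 ^ (3 - 2))) u ∧ IsConj (σ ^ (2 ^ (3 - 2))) (σ * u) := by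
    rw [show 2 ^ (3 - 2) = 2 by norm_num, hσ2, hστ]
    exact ⟨D.isConj_T hJT (D.sym_isT hS huu hu1), D.isConj_T hJT (isT_of_inV hab hvJV.1 hvJ1)⟩
  obtain ⟨hne, heq⟩ := Cfsg.Agent.S4482.result M hM 3 le_rfl P σ u hσP huP hσ4 huo hrel hgen hconj χ₁
    hχ n1 δ₁ e1 fun l h0 h => (hval l h0 h).1
  have hx : 1 ≤ Cfsg.charDegree (χ₁ : G → ℂ) := (CfsgLib.Block.Chr.irr_one χ₁).2
  set x := Cfsg.charDegree (χ₁ : G → ℂ)
  set c1 := Nat.card (Subgroup.centralizer ({σ ^ 2 ^ (3 - 2), u} : Set G))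
  set c2 := Nat.card (Subgroup.centralizer ({σ ^ 2 ^ (3 - 2), σ * u} : Set G))
  rw [hC, hG] at heq
  have hc1 : c1 = 2 * q := by
    rw [hq, show q + 1 - 1 = q by omega] at hC1
    exact Nat.eq_of_mul_eq_mul_left (show 0 < 2 * (q + 1) by omega) (hC1.trans (by ring))
  have hc2 : c2 = 2 * ((q + 1) * q) := by
    rw [hq, show q + 1 - 1 = q by omega] at hC2
    omega
  rw [hc1, hc2, hq, show q + 1 - 1 = q by omega] at heq
  have hq0 : (q : ℚ) ≠ 0 := Nat.cast_ne_zero.2 (by omega)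
  have hq1 : (q : ℚ) + 1 ≠ 0 := by positivity
  have hTq : 3 * (T : ℚ) = 5 * ((2 * q + 3) * (2 * q + 5)) := by exact_mod_cast hT
  push_cast at heq
  field_simp at heq
  have hE : ((5 * (4 * ((q : ℤ) + 2) ^ 2 - 1) * ((x : ℤ) - δ₁) ^ 2 : ℤ) : ℚ) =
      ((24 * x * ((x : ℤ) + δ₁) * ((q : ℤ) + 2) ^ 2 : ℤ) : ℚ) := by
    push_cast
    refine mul_left_cancel₀ (show (4 : ℚ) ≠ 0 by norm_num) ?_
    linear_combination 6 * heq - 4 * ((x : ℚ) - δ₁) ^ 2 * hTq
  have h := dio5 (F := (q : ℤ) + 2) (x := (x : ℤ)) (δ := δ₁) (by omega) (by omega) (by exact_mod_cast hx) e1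
    (by exact_mod_cast hE)
  omega

end Hyp

end CfsgLib.TwoPointA5
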