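import Cfsg.Agent.TwoPointA5.CaseG
import Cfsg.Agent.TwoPointA4.CaseJ

/-!
# Sixteen swaps of the class and an odd number of common fixed points
-/

set_option autoImplicit false
set_option linter.unusedSectionVars false
set_option linter.style.haveILetI false

namespace CfsgLib.TwoPointA5

open MulAction Finset CfsgLib.TwoPointA4
open scoped Classical Pointwise

universe u v

variable {G : Type u} {Ω : Type v} [Group G] [MulAction G Ω] [Fintype Ω] [Fintype G]

namespace Hyp

variable (D : Hyp G Ω)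
include D

/-- The number of kernel swaps is the same for all involutions of the class. -/
theorem jCount_const {a b : Ω} (hab : a ≠ b) {J : G} (hJ : InV a b J) (hJ1 : J ≠ 1) {t : G}
    (ht : IsT Ω t) {p q : Ω} (hp : p ∈ fx (Ω := Ω) t) (hq : q ∈ fx (Ω := Ω) t) (hpq : p ≠ q) :
    jCount t p q = jCount J a b := by
  have h1 := D.kern_swap_equation (isT_of_inV hab hJ hJ1) hab (mem_fx.2 hJ.1) (mem_fx.2 hJ.2.1)
  have h2 := D.kern_swap_equation ht hpq hp hq
  rw [D.card_fx_T (isT_of_inV hab hJ hJ1) ht,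
    D.card_FV_eq hab hJ hJ1 hpq ⟨mem_fx.1 hp, mem_fx.1 hq, ht.1⟩ ht.2.1, h1] at h2
  have he := D.two_le_card_FV hab J
  exact (Nat.eq_of_mul_eq_mul_right (Nat.mul_pos (by omega) (by omega)) h2).symm

/-- Only `t` fixes all fixed points of `t`. -/
theorem cent_fixing (hK : ¬ KV G Ω) {t : G} (ht : IsT Ω t) {g : G} (hg : g * t = t * g)
    (hfix : ∀ x ∈ fx (Ω := Ω) t, g • x = x) : g = 1 ∨ g = t := by
  obtain ⟨p, hp, q, hq, hpq⟩ := one_lt_card.1 ht.2.2
  have hV : InV p q t := ⟨mem_fx.1 hp, mem_fx.1 hq, ht.1⟩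
  by_contra h
  push Not at h
  have hgV := D.inJ_of_commute hpq hV ht.2.1 (hfix p hp) (hfix q hq) hg.symm
  have hi := D.inter_fx_eq hpq hV hgV ht.2.1 h.1 h.2
  rw [inter_eq_left.2 fun x hx => mem_fx.2 (hfix x hx)] at hi
  exact (D.card_FV_lt hK hpq hV ht.2.1).ne (congrArg card hi.symm)

/-- An element exchanging two points and commuting with an involution fixing them is an involution. -/
theorem central_sq (hC : Central G Ω) {p q : Ω} (hpq : p ≠ q) {t g : G} (ht : InV p q t) (ht1 : t ≠ 1)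
    (hg : Swap p q g) (hgt : g * t = t * g) : g * g = 1 := by
  obtain ⟨z, hz, hzz, hzc⟩ := hC p q hpq
  exact (central_invol hz hzz hzc hg).2 (D.central_swap_cent hpq hz hzz hzc ht ht1 hg hgt).1

/-- There are four involutions exchanging two points and commuting with an involution fixing them. -/
theorem card_cent_swaps (hC : Central G Ω) {p q : Ω} (hpq : p ≠ q) {t : G} (ht : InV p q t)
    (ht1 : t ≠ 1) :
    (univ.filter fun g : G => g * t = t * g ∧ g * g = 1 ∧ g • p = q).card = 4 := by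
  obtain ⟨z, hz, hzz, hzc⟩ := hC p q hpq
  rw [← D.card_inJ hpq ht ht1]
  refine (card_bij (fun w _ => z * w) (fun w hw => ?_) (fun _ _ _ _ h => mul_left_cancel h)
    fun g hg => ?_).symm
  · have hw := (mem_filter.1 hw).2
    have hs : Swap p q (z * w) := hz.mul_right hw.1.1 hw.1.2.1
    refine mem_filter.2 ⟨mem_univ _,
      (Commute.mul_left (hzc t ht.1 ht.2.1) hw.2).eq, ?_, hs.1⟩
    rw [central_invol hz hzz hzc hs, ← mul_assoc, hzz, one_mul]
    exact hw.1
  · obtain ⟨h1, h2, h3⟩ := (mem_filter.1 hg).2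
    refine ⟨z * g, mem_filter.2 ⟨mem_univ _, ?_⟩, by rw [← mul_assoc, hzz, one_mul]⟩
    exact D.central_swap_cent hpq hz hzz hzc ht ht1 (swap_of_invol h2 h3) h1

/-- The centralizing involution fixes one common fixed point. -/
theorem exists_fixed_point {a b : Ω} (hab : a ≠ b) {J : G} (hJ : InV a b J) (hJ1 : J ≠ 1)
    (he : Odd (FV J a b).card) {z : G} (hz : Swap a b z) (hzz : z * z = 1) (hzJ : z * J = J * z) :
    ∃ c ∈ FV J a b, z • c = c ∧ ∀ x ∈ FV J a b, z • x = x → x = c := by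
  have hzF : ∀ x ∈ FV J a b, z • x ∈ FV J a b := fun x hx => by
    have := (mem_FV_cent (a := a) (b := b) hzJ).2 hx
    rwa [hz.1, hz.2, FV_comm] at this
  have h2 := card_inter_fx_mod_two z (FV J a b) hzF fun x _ => by rw [smul_smul, hzz, one_smul]
  obtain ⟨c, hc⟩ := card_pos.1 (show 0 < (FV J a b ∩ fx z).card by obtain ⟨m, hm⟩ := he; omega)
  obtain ⟨hcF, hcz⟩ := mem_inter.1 hc
  refine ⟨c, hcF, mem_fx.1 hcz, fun x hx hxz => ?_⟩
  by_contra hne
  have hV := ((D.inJ_iff_of_mem hab hJ hJ1 hx hcF hne).1 ⟨⟨hxz, mem_fx.1 hcz, hzz⟩, hzJ⟩).1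
  exact hab (hV.1.symm.trans hz.1)

theorem caseJ_two (hC : Central G Ω) (hK : ¬ KV G Ω) {a b : Ω} (hab : a ≠ b) {J : G} (hJ : InV a b J) (hJ1 : J ≠ 1)
    (he : Odd (FV J a b).card) {z : G} (hz : Swap a b z) (hzz : z * z = 1) (hzc : ∀ h : G, h • a = a → h • b = b → z * h = h * z) (hzT : IsT Ω z)
    (hj : jCount J a b = 2) : False := by
  haveI : Fact (Nat.Prime 2) := ⟨Nat.prime_two⟩
  have hJT := isT_of_inV hab hJ hJ1
  obtain ⟨v, hv, hv1, hvJ⟩ := D.exists_second hab hJ hJ1
  have hvJV := (D.inJ_mul hab hJ hJ1 hv (inJ_self hJ)).2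
  have hvJ1 : v * J ≠ 1 := fun e => hvJ (mul_right_cancel (e.trans hJ.2.2.symm))
  obtain ⟨p, k, hp', hk0, hpe⟩ := D.isPrimePow_card_FV hab hJ hJ1
  have hp := hp'.nat_prime
  set e := (FV J a b).card with he'
  have hp2 : p ≠ 2 := fun h => by
    subst h
    exact (Nat.not_even_iff_odd.2 he) (hpe ▸ (Nat.even_pow.2 ⟨even_two, by omega⟩))
  have he3 : 3 ≤ e := by
    have := D.two_le_card_FV hab J
    obtain ⟨m, hm⟩ := he
    omega
  have hfe : (fx (Ω := Ω) J).card = e * e := by
    have h := D.kern_swap_equation hJT hab (mem_fx.2 hJ.1) (mem_fx.2 hJ.2.1)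
    have hlt := D.card_FV_lt hK hab hJ hJ1
    rw [hj, ← he'] at h
    rw [← he'] at hlt
    have := Nat.mul_sub e e 1
    rw [mul_one] at this
    have : e ≤ e * e := Nat.le_mul_self e
    omega
  set Φ := fx (Ω := Ω) z with hΦ
  have hf : Φ.card = e * e := by rw [hΦ, D.card_fx_T hJT hzT, hfe]
  have hfodd : Odd Φ.card := hf ▸ he.mul he
  obtain ⟨c, hcF, hzcc, hcu⟩ := D.exists_fixed_point hab hJ hJ1 he hz hzz (hzc J hJ.1 hJ.2.1)
  have hcΦ : c ∈ Φ := mem_fx.2 hzcc
  -- the other involutions of the centralizer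
  let W : Finset G := univ.filter fun g => g * z = z * g ∧ g * g = 1 ∧ g ≠ 1 ∧ g ≠ z ∧ g ∉ kern Ω z
  have hmemW : ∀ g, g ∈ W ↔ g * z = z * g ∧ g * g = 1 ∧ g ≠ 1 ∧ g ≠ z ∧ g ∉ kern Ω z := fun g => by
    simp [W]
  have hone : ∀ w ∈ W, (Φ ∩ fx w).card = 1 := by
    intro w hw
    obtain ⟨h1, h2, h3, h4, h5⟩ := (hmemW w).1 hw
    have hle : ¬ 2 ≤ (Φ ∩ fx w).card := fun h => h5 (mem_kern.2 ⟨h3, h4, h1, h⟩)
    have h6 := card_inter_fx_mod_two w Φ (fun x hx => cent_preserves h1 hx) fun x _ => by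
      rw [smul_smul, h2, one_smul]
    obtain ⟨m, hm⟩ := hfodd
    omega
  have hWc : ∀ g : G, g * z = z * g → ∀ w ∈ W, g * w * g⁻¹ ∈ W := by
    intro g hg w hw
    obtain ⟨h1, h2, h3, h4, h5⟩ := (hmemW w).1 hw
    have hgz : g * z * g⁻¹ = z := by rw [hg, mul_inv_cancel_right]
    refine (hmemW _).2 ⟨((Commute.mul_left hg h1).mul_left (Commute.inv_left hg)).eq,
      by rw [conj_mul, h2]; group, fun e => h3 (conj_eq_one_iff.1 e),
      fun e => h4 (mul_left_cancel (mul_right_cancel (e.trans hgz.symm))), fun e => h5 ?_⟩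
    have := kern_conj g⁻¹ e
    rw [← hgz] at this
    simpa [mul_assoc] using this
  have hpair : ∀ x ∈ Φ, ∀ y ∈ Φ, x ≠ y → (W.filter fun w => w • x = y).card = 2 := by
    intro x hx y hy hxy
    have hzV : InV x y z := ⟨mem_fx.1 hx, mem_fx.1 hy, hzz⟩
    have hA := D.card_cent_swaps hC hxy hzV hzT.2.1
    have hkk : ((kern Ω z).filter fun g => g • x = y).card = 2 :=
      (D.jCount_const hab hJ hJ1 hzT hx hy hxy).trans hj
    have hset : W.filter (fun w => w • x = y) =
        (univ.filter fun g : G => g * z = z * g ∧ g * g = 1 ∧ g • x = y) \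
          (kern Ω z).filter (fun g => g • x = y) := by
      ext g
      simp only [mem_filter, mem_sdiff, hmemW, Finset.mem_univ, true_and, not_and]
      constructor
      · rintro ⟨⟨h1, h2, -, -, h5⟩, h6⟩
        exact ⟨⟨h1, h2, h6⟩, fun h => absurd h h5⟩
      · rintro ⟨⟨h1, h2, h6⟩, h7⟩
        refine ⟨⟨h1, h2, ?_, ?_, fun h => h7 h h6⟩, h6⟩
        · rintro rfl
          exact hxy ((one_smul G x).symm.trans h6)
        · rintro rfl
          exact hxy ((mem_fx.1 hx).symm.trans h6)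
    rw [hset, card_sdiff_of_subset, hA, hkk]
    intro g hg
    obtain ⟨h1, h2⟩ := mem_filter.1 hg
    exact mem_filter.2 ⟨mem_univ _, (mem_kern.1 h1).2.2.1, (D.kern_isT hzT h1).1, h2⟩
  have htrC : ∀ x ∈ Φ, ∀ y ∈ Φ, ∃ g ∈ Subgroup.centralizer ({z} : Set G), g • x = y := by
    intro x hx y hy
    obtain ⟨r, hr, hrx⟩ := exists_mem_ne hzT.2.2 x
    obtain ⟨r', hr', hry⟩ := exists_mem_ne hzT.2.2 y
    obtain ⟨g, hg, h, -⟩ := D.cent_trans hzT hx hr hy hr' hrx.symm hry.symm
    exact ⟨g, Subgroup.mem_centralizer_singleton_iff.2 hg, h⟩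
  have hwz : ∀ w : G, InJ J a b w → w * z = z * w := fun w hw => (hzc w hw.1.1 hw.1.2.1).symm
  have hconjk : ∀ w : G, InJ J a b w → w ≠ 1 → (w ∈ kern Ω z ↔ z ∈ kern Ω J) := by
    intro w hw hw1
    have hkz : ∀ h : G, h • a = a → h • b = b → h * z * h⁻¹ = z := fun h h1 h2 => by
      rw [← hzc h h1 h2, mul_inv_cancel_right]
    constructor
    · intro h
      obtain ⟨l, la, lb, hl⟩ := D.inV_conj_inV hab hw.1 hw1 hJ hJ1
      have := kern_conj l (kern_symm hzT h)
      rwa [hl, hkz l la lb] at this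
    · intro h
      obtain ⟨l, la, lb, hl⟩ := D.inV_conj_inV hab hJ hJ1 hw.1 hw1
      have := kern_conj l (kern_symm hJT h)
      rwa [hl, hkz l la lb] at this
  by_cases hzk : z ∈ kern Ω J
  swap
  · have hfib := fibre_card (Subgroup.centralizer ({z} : Set G)) Φ htrC W
      (fun g hg => hWc g (Subgroup.mem_centralizer_singleton_iff.1 hg))
      (fun w hw x hx => cent_preserves ((hmemW w).1 hw).1 hx) hone 2 hpair hzT.2.2 hcΦ
    have hin : ∀ w : G, InJ J a b w → w ≠ 1 → w ∈ W.filter fun w => w • c = c := fun w hw hw1 =>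
      mem_filter.2 ⟨(hmemW w).2 ⟨hwz w hw, hw.1.2.2, hw1, fun e => hab ((e ▸ hw).1.1.symm.trans hz.1),
        fun h => hzk ((hconjk w hw hw1).1 h)⟩, mem_FV.1 hcF w hw⟩
    have h3 : ({J, v, v * J} : Finset G) ⊆ W.filter fun w => w • c = c := by
      intro w hw
      simp only [mem_insert, mem_singleton] at hw
      rcases hw with rfl | rfl | rfl
      exacts [hin _ (inJ_self hJ) hJ1, hin _ hv hv1, hin _ hvJV hvJ1]
    have := card_le_card h3
    rw [hfib, card_insert_of_notMem (by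
        simp [hvJ.symm, show J ≠ v * J from fun e => hv1 (mul_eq_right.1 e.symm)]),
      card_insert_of_notMem (by simp [show v ≠ v * J from fun e => hJ1 (mul_eq_left.1 e.symm)]),
      card_singleton] at this
    omega
  -- the regular subgroup
  set E := fourJ D hab hJ hJ1 with hE
  have hEz : ∀ g ∈ E, g * z = z * g := fun g hg => hwz g hg
  have hE2 : IsPGroup 2 E := IsPGroup.of_card (n := 2) (by rw [hE, card_fourJ]; norm_num)
  have hWmul : ∀ w ∈ W, w * z ∈ W := by
    intro w hw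
    obtain ⟨h1, h2, h3, h4, h5⟩ := (hmemW w).1 hw
    refine (hmemW _).2 ⟨(Commute.mul_left h1 (Commute.refl z)).eq, ?_,
      fun e => h4 (mul_right_cancel (e.trans hzz.symm)), fun e => h3 (mul_eq_right.1 e), fun e => h5 ?_⟩
    · calc w * z * (w * z) = w * (z * w) * z := by group
        _ = w * w * (z * z) := by rw [← h1]; group
        _ = 1 := by rw [h2, hzz, one_mul]
    · have := D.kern_mul hzT e
      rwa [mul_assoc, hzz, mul_one] at this
  have hfp : Φ.card = p ^ (k + k) := by rw [hf, pow_add, hpe]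
  obtain ⟨P, hPz, hPcard, hPE, hPtr, hPfree⟩ := D.exists_regular_sylow hzT hp hp2 (k := k + k)
    (by omega) hfp (fun g hg h => D.cent_fixing hK hzT hg h) W (fun w hw => ((hmemW w).1 hw).1) hWmul hWc
    (fun w hw => Or.inl ((hmemW w).1 hw).2.1) hone hpair E hEz hE2
  have hPinv : ∀ y ∈ P, ∀ x ∈ Φ, y • x ∈ Φ := fun y hy x hx => cent_preserves (hPz y hy) hx
  have hcP : ∀ w : G, InJ J a b w → w ≠ 1 →
      Nat.card ↥(P ⊓ Subgroup.centralizer ({w} : Set G)) = e := fun w hw hw1 => by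
    rw [card_cent_regular P Φ hPinv hPtr hPfree w (fun y hy => hPE w hw y hy) hcΦ (mem_FV.1 hcF w hw)]
    obtain ⟨x, hx, y, hy, hxy⟩ := one_lt_card.1 hzT.2.2
    rw [D.kern_inter hzT ((hconjk w hw hw1).2 hzk) hxy hx hy]
    exact D.card_FV_eq hab hJ hJ1 hxy ⟨mem_fx.1 hx, mem_fx.1 hy, hzz⟩ hzT.2.1
  have hcA : Nat.card ↥(P ⊓ Subgroup.centralizer (E : Set G)) = 1 := by
    rw [Subgroup.card_eq_one, Subgroup.eq_bot_iff_forall]
    rintro y ⟨hy, hyE⟩
    refine hPfree y hy c hcΦ (hcu _ (mem_FV.2 fun w hw => ?_) (mem_fx.1 (hPinv y hy c hcΦ)))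
    rw [smul_smul, Subgroup.mem_centralizer_iff.1 hyE w hw, mul_smul, mem_FV.1 hcF w hw]
  have hPodd : Odd (Nat.card P) := by rw [hPcard, ← hfp]; exact hfodd
  have hnormP : ∀ g ∈ E, g ∈ Subgroup.normalizer (P : Set G) := fun g hg => by
    refine Subgroup.mem_normalizer_iff.2 fun y => ⟨hPE g hg y, fun h => ?_⟩
    have := hPE g⁻¹ (inv_mem hg) _ h
    rwa [show g⁻¹ * (g * y * g⁻¹) * g⁻¹⁻¹ = y by group] at this
  have hA : Cfsg.IsElementaryAbelian 2 E :=
    ⟨⟨⟨fun x y => Subtype.ext (D.inJ_mul hab hJ hJ1 x.2 y.2).1⟩⟩, fun x hx => by rw [sq]; exact hx.1.2.2⟩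
  have h := Signalizer.wielandt hA (by rw [hE, card_fourJ]; norm_num) (K := P)
    (fun h => (Nat.not_even_iff_odd.2 hPodd) (even_iff_two_dvd.2 h)) fun g hg => hnormP g hg
  obtain ⟨hl, hl1, hl2⟩ := D.lines_fourGroup hab hJ hJ1 hv hv1 hvJ
  rw [hl, prod_insert hl1, prod_pair hl2, card_insert_of_notMem hl1, card_pair hl2,
    centralizer_zpowers', centralizer_zpowers', centralizer_zpowers', hcP J (inJ_self hJ) hJ1, hcP v hv hv1,
    hcP _ hvJV hvJ1, hcA, hPcard, ← hfp, hf, one_pow, mul_one] at h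
  have h1 : e * e * e = e * e * 1 := by rw [mul_one]; linarith
  have := Nat.eq_of_mul_eq_mul_left (Nat.mul_pos (by omega) (by omega)) h1
  omega

theorem caseJ_four (hC : Central G Ω) (hK : ¬ KV G Ω) {a b : Ω} (hab : a ≠ b) {J : G} (hJ : InV a b J) (hJ1 : J ≠ 1)
    (he : Odd (FV J a b).card) {z : G} (hz : Swap a b z) (hzz : z * z = 1) (hzc : ∀ h : G, h • a = a → h • b = b → z * h = h * z)
    (hj : jCount J a b = 4) : False := by
  haveI : Fact (Nat.Prime 2) := ⟨Nat.prime_two⟩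
  have hJT := isT_of_inV hab hJ hJ1
  obtain ⟨v, hv, hv1, hvJ⟩ := D.exists_second hab hJ hJ1
  have hvJV := (D.inJ_mul hab hJ hJ1 hv (inJ_self hJ)).2
  set F := FV J a b with hFdef
  set e := F.card with he'
  set Φ := fx (Ω := Ω) J with hΦdef
  set f := Φ.card with hf'
  have he3 : 3 ≤ e := by
    have h2 : 2 ≤ e := D.two_le_card_FV hab J
    obtain ⟨m, hm⟩ := he
    omega
  obtain ⟨q, hq⟩ : ∃ q, e = q + 1 := ⟨e - 1, by omega⟩
  have hfq : f = (q + 1) * (2 * q + 1) := by
    have h := D.kern_swap_equation hJT hab (mem_fx.2 hJ.1) (mem_fx.2 hJ.2.1)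
    have hlt := D.card_FV_lt hK hab hJ hJ1
    rw [hj, ← hf', ← he', hq, Nat.add_sub_cancel] at h
    rw [← hf', ← he', hq] at hlt
    have : (q + 1) * (2 * q + 1) = 2 * ((q + 1) * q) + (q + 1) := by ring
    omega
  obtain ⟨c, hcF, hzcc, hcu⟩ := D.exists_fixed_point hab hJ hJ1 he hz hzz (hzc J hJ.1 hJ.2.1)
  have hcΦ : c ∈ Φ := FV_subset_fx (inJ_self hJ) hcF
  have hzJ : z * J = J * z := hzc J hJ.1 hJ.2.1
  set C := Subgroup.centralizer ({J} : Set G) with hCdef
  have hmemC : ∀ g : G, g ∈ C ↔ g * J = J * g := fun g => Subgroup.mem_centralizer_singleton_iff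
  -- elements exchanging two fixed points of `J`
  have hsq : ∀ g : G, g * J = J * g → ∀ x ∈ Φ, g • x ≠ x → g • g • x = x → g * g = 1 := fun g hg x hx h1 h2 =>
    D.central_sq hC (Ne.symm h1) ⟨mem_fx.1 hx, mem_fx.1 (cent_preserves hg hx), hJ.2.2⟩ hJ1 ⟨rfl, h2⟩ hg
  have hmove : ∀ g : G, g * J = J * g → g ≠ 1 → g ≠ J → ∃ x ∈ Φ, g • x ≠ x := by
    intro g hg h1 h2
    by_contra h
    push Not at h
    rcases D.cent_fixing hK hJT hg h with e | e
    exacts [h1 e, h2 e]
  have hswap : ∀ g : G, g * J = J * g → g * g = 1 → g ≠ 1 → g ≠ J → g ∈ kern Ω J := by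
    intro g hg hgg h1 h2
    obtain ⟨x, hx, hgx⟩ := hmove g hg h1 h2
    have hxy : x ≠ g • x := Ne.symm hgx
    have hy : g • x ∈ Φ := cent_preserves hg hx
    have hA := D.card_cent_swaps hC hxy (t := J) ⟨mem_fx.1 hx, mem_fx.1 hy, hJ.2.2⟩ hJ1
    have hkk : ((kern Ω J).filter fun k => k • x = g • x).card = 4 :=
      (D.jCount_const hab hJ hJ1 hJT hx hy hxy).trans hj
    have hsub : (kern Ω J).filter (fun k => k • x = g • x) ⊆
        univ.filter fun k : G => k * J = J * k ∧ k * k = 1 ∧ k • x = g • x := by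
      intro k hk
      obtain ⟨k1, k2⟩ := mem_filter.1 hk
      exact mem_filter.2 ⟨mem_univ _, (mem_kern.1 k1).2.2.1, (D.kern_isT hJT k1).1, k2⟩
    have heq := eq_of_subset_of_card_le hsub (by rw [hA, hkk])
    have hgm : g ∈ univ.filter fun k : G => k * J = J * k ∧ k * k = 1 ∧ k • x = g • x :=
      mem_filter.2 ⟨mem_univ _, hg, hgg, rfl⟩
    rw [← heq] at hgm
    exact (mem_filter.1 hgm).1
  have hexp : ∀ g : G, g * J = J * g → g * g * (g * g) = 1 → g * g = 1 := by
    intro g hg h4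
    by_contra hne
    have hgg : g * g * J = J * (g * g) := (Commute.mul_left hg hg).eq
    by_cases hgJ : g * g = J
    · obtain ⟨x, hx, hgx⟩ := hmove g hg (fun e => hne (by rw [e, one_mul]))
        (fun e => hne (by rw [e, hJ.2.2]))
      exact hne (hsq g hg x hx hgx (by rw [smul_smul, hgJ, mem_fx.1 hx]))
    · obtain ⟨-, -, -, h2⟩ := mem_kern.1 (hswap _ hgg h4 hne hgJ)
      obtain ⟨x, hx, y, hy, hxy⟩ := one_lt_card.1 h2
      have hfix : ∀ x ∈ fx (Ω := Ω) J ∩ fx (g * g), g • x = x := fun x hx => by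
        by_contra h
        exact hne (hsq g hg x (mem_inter.1 hx).1 h (by rw [smul_smul, mem_fx.1 (mem_inter.1 hx).2]))
      exact hne (D.inJ_of_commute hxy
        ⟨mem_fx.1 (mem_inter.1 hx).1, mem_fx.1 (mem_inter.1 hy).1, hJ.2.2⟩ hJ1 (hfix x hx) (hfix y hy)
        hg.symm).1.2.2
  have hexp' : ∀ (k : ℕ) (g : G), g * J = J * g → g ^ 2 ^ k = 1 → g * g = 1 := by
    intro k
    induction k with
    | zero =>
      intro g _ h
      rw [pow_zero, pow_one] at h
      rw [h, one_mul]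
    | succ n ih =>
      intro g hg h
      refine hexp g hg (ih (g * g) (Commute.mul_left hg hg).eq ?_)
      rwa [← pow_two, ← pow_mul, ← pow_succ']
  -- involutions of the set stabilizer
  set N := normV J a b with hN
  let W : Finset G := univ.filter fun g => g ∈ N ∧ g * g = 1 ∧ ¬ InJ J a b g
  have hmemW : ∀ g, g ∈ W ↔ g ∈ N ∧ g * g = 1 ∧ ¬ InJ J a b g := fun g => by simp [W]
  have hzN : z ∈ N := by
    refine ⟨(hmemC z).2 hzJ, mem_setStab_of_maps fun x hx => ?_⟩
    have := (mem_FV_cent (a := a) (b := b) hzJ).2 hx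
    rwa [hz.1, hz.2, FV_comm] at this
  have hVN : ∀ g : G, InJ J a b g → g ∈ N := fun g hg =>
    ((D.normV_two_point hab hJ hJ1 (left_mem_FV J a b) (right_mem_FV J a b) hab).2 hg).1
  have hWfib : ∀ g : G, g ∈ N → g * g = 1 → ¬ InJ J a b g → g • c = c → InJ J a b (z * g) := by
    have hWc : ∀ g ∈ N, ∀ w ∈ W, g * w * g⁻¹ ∈ W := by
      intro g hg w hw
      obtain ⟨h1, h2, h3⟩ := (hmemW w).1 hw
      refine (hmemW _).2 ⟨mul_mem (mul_mem hg h1) (inv_mem hg), by rw [conj_mul, h2]; group, fun h => h3 ?_⟩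
      have := D.normV_inJ_conj hab hJ hJ1 (inv_mem hg) h
      rwa [show g⁻¹ * (g * w * g⁻¹) * g⁻¹⁻¹ = w by group] at this
    have hone : ∀ w ∈ W, (F ∩ fx w).card = 1 := by
      intro w hw
      obtain ⟨h1, h2, h3⟩ := (hmemW w).1 hw
      have hle : ¬ 2 ≤ (F ∩ fx w).card := fun h => by
        obtain ⟨x, hx, y, hy, hxy⟩ := one_lt_card.1 h
        exact h3 ((D.normV_two_point hab hJ hJ1 (mem_inter.1 hx).1 (mem_inter.1 hy).1 hxy).1
          ⟨h1, mem_fx.1 (mem_inter.1 hx).2, mem_fx.1 (mem_inter.1 hy).2⟩)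
      have h6 := card_inter_fx_mod_two w F (fun x hx => (h1.2 x).2 hx) fun x _ => by
        rw [smul_smul, h2, one_smul]
      obtain ⟨m, hm⟩ := he
      omega
    have hk : ∀ x ∈ F, ∀ y ∈ F, x ≠ y → (W.filter fun w => w • x = y).card = 4 := by
      intro x hx y hy hxy
      have hJ' : InV x y J := D.inV_of_mem hJ hx hy
      rw [← D.card_cent_swaps hC hxy hJ' hJ1]
      congr 1
      ext g
      simp only [mem_filter, hmemW, Finset.mem_univ, true_and]
      constructor
      · rintro ⟨⟨h1, h2, -⟩, h4⟩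
        exact ⟨(hmemC g).1 h1.1, h2, h4⟩
      · rintro ⟨h1, h2, h4⟩
        have hs := swap_of_invol h2 h4
        refine ⟨⟨⟨(hmemC g).2 h1, mem_setStab_of_maps fun p hp => ?_⟩, h2, fun h => hxy ?_⟩, h4⟩
        · have hp' : p ∈ FV J x y := by rw [D.FV_eq_of_mem hab hJ hJ1 hx hy hxy]; exact hp
          have := (mem_FV_cent (a := x) (b := y) h1).2 hp'
          rwa [hs.1, hs.2, D.FV_eq_of_mem hab hJ hJ1 hy hx hxy.symm] at this
        · rw [← h4, mem_FV.1 hx g h]
    have hfib := fibre_card N F (fun x hx y hy => by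
        obtain ⟨r, hr, hrx⟩ := exists_mem_ne (by omega : 1 < F.card) x
        obtain ⟨r', hr', hry⟩ := exists_mem_ne (by omega : 1 < F.card) y
        obtain ⟨g1, hg1, h1, -⟩ := D.normV_trans hab hJ hJ1 hx hr hrx.symm
        obtain ⟨g2, hg2, h2, -⟩ := D.normV_trans hab hJ hJ1 hy hr' hry.symm
        exact ⟨g2 * g1⁻¹, mul_mem hg2 (inv_mem hg1), by rw [mul_smul, ← h1, inv_smul_smul, h2]⟩)
      W hWc (fun w hw x hx => (((hmemW w).1 hw).1.2 x).2 hx) hone 4 hk (by omega) hcF
    intro g hg hgg hgV hgc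
    have hsub : (univ.filter fun w : G => InJ J a b w).image (fun w => z * w) ⊆
        W.filter fun w => w • c = c := by
      intro y hy
      obtain ⟨w, hw, rfl⟩ := mem_image.1 hy
      have hw := (mem_filter.1 hw).2
      refine mem_filter.2 ⟨(hmemW _).2 ⟨mul_mem hzN (hVN w hw), ?_, fun h => hab ?_⟩,
        by rw [mul_smul, mem_FV.1 hcF w hw, hzcc]⟩
      · rw [central_invol hz hzz hzc (hz.mul_right hw.1.1 hw.1.2.1), ← mul_assoc, hzz, one_mul]
        exact hw.1
      · have := h.1.1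
        rw [mul_smul, hw.1.1, hz.1] at this
        exact this.symm
    have heq := eq_of_subset_of_card_le hsub (by
      rw [hfib, card_image_of_injective _ (mul_right_injective z), D.card_inJ hab hJ hJ1])
    have hm : g ∈ W.filter fun w => w • c = c := mem_filter.2 ⟨(hmemW g).2 ⟨hg, hgg, hgV⟩, hgc⟩
    rw [← heq] at hm
    obtain ⟨w, hw, rfl⟩ := mem_image.1 hm
    rw [← mul_assoc, hzz, one_mul]
    exact (mem_filter.1 hw).2
  -- the Sylow subgroup
  let E8 : Subgroup G :=
    { carrier := {g | InJ J a b g ∨ InJ J a b (z * g)}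
      one_mem' := Or.inl (inJ_one J a b)
      inv_mem' := fun {g} hg => by
        rcases hg with h | h
        · exact Or.inl (by rw [inv_eq_of_mul_eq_one_right h.1.2.2]; exact h)
        · refine Or.inr ?_
          have e : g = z * (z * g) := by rw [← mul_assoc, hzz, one_mul]
          rw [e, mul_inv_rev, inv_eq_of_mul_eq_one_right hzz, inv_eq_of_mul_eq_one_right h.1.2.2,
            ← hzc _ h.1.1 h.1.2.1, ← mul_assoc z z, hzz, one_mul]
          exact h
      mul_mem' := fun {g h} hg hh => by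
        rcases hg with hg | hg <;> rcases hh with hh | hh
        · exact Or.inl (D.inJ_mul hab hJ hJ1 hg hh).2
        · refine Or.inr ?_
          rw [← mul_assoc, hzc g hg.1.1 hg.1.2.1, mul_assoc]
          exact (D.inJ_mul hab hJ hJ1 hg hh).2
        · exact Or.inr (by rw [← mul_assoc]; exact (D.inJ_mul hab hJ hJ1 hg hh).2)
        · refine Or.inl ?_
          have e : g * h = z * g * (z * h) := by
            rw [mul_assoc z g (z * h), ← mul_assoc g z h, ← mul_assoc z (g * z) h, ← mul_assoc z g z,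
              mul_assoc (z * g), ← mul_assoc (z * g) z]
            have : z * g * z = g := by
              rw [← hzc _ hg.1.1 hg.1.2.1, ← mul_assoc, hzz, one_mul]
            rw [this]
          rw [e]
          exact (D.inJ_mul hab hJ hJ1 hg hh).2 }
  have hmemE : ∀ g, g ∈ E8 ↔ InJ J a b g ∨ InJ J a b (z * g) := fun g => Iff.rfl
  have hE8 : Nat.card E8 = 8 := by
    rw [Nat.card_eq_fintype_card, Fintype.card_of_subtype
      ((univ.filter fun g : G => InJ J a b g) ∪ (univ.filter fun g : G => InJ J a b g).image (fun g => z * g))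
      fun g => ?_, card_union_of_disjoint, card_image_of_injective _ (mul_right_injective z), D.card_inJ hab hJ hJ1]
    · refine disjoint_left.2 fun g hg hg' => ?_
      obtain ⟨w, hw, rfl⟩ := mem_image.1 hg'
      have h := (mem_filter.1 hg).2.1.1
      rw [mul_smul, (mem_filter.1 hw).2.1.1, hz.1] at h
      exact hab h.symm
    · rw [mem_union, mem_filter, mem_image, hmemE]
      constructor
      · rintro (h | ⟨w, hw, rfl⟩)
        · exact Or.inl h.2
        · exact Or.inr (by rw [← mul_assoc, hzz, one_mul]; exact (mem_filter.1 hw).2)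
      · rintro (h | h)
        · exact Or.inl ⟨mem_univ _, h⟩
        · exact Or.inr ⟨z * g, mem_filter.2 ⟨mem_univ _, h⟩, by rw [← mul_assoc, hzz, one_mul]⟩
  have hEC : E8 ≤ C := fun g hg => by
    rcases (hmemE g).1 hg with h | h
    · exact (hVN g h).1
    · rw [show g = z * (z * g) by rw [← mul_assoc, hzz, one_mul]]
      exact mul_mem ((hmemC z).2 hzJ) (hVN _ h).1
  have hzE : z ∈ E8 := Or.inr (by rw [hzz]; exact inJ_one J a b)
  have hVE : ∀ g : G, InJ J a b g → g ∈ E8 := fun g => Or.inl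
  have hgood : ∀ g : G, g ∈ N → g * g = 1 → g • c = c → g ∈ E8 := fun g hg hgg hgc => by
    by_cases h : InJ J a b g
    exacts [hVE g h, Or.inr (hWfib g hg hgg h hgc)]
  let E8C : Subgroup C := E8.subgroupOf C
  have hE8C : Nat.card E8C = 8 := by
    rw [Nat.card_congr (Subgroup.subgroupOfEquivOfLe hEC).toEquiv, hE8]
  obtain ⟨S, hS⟩ := (IsPGroup.of_card (n := 3) (hE8C.trans (by norm_num)) : IsPGroup 2 E8C).exists_le_sylow
  have hS2 : ∀ s : C, s ∈ (S : Subgroup C) → (s : G) * s = 1 := by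
    intro s hs
    obtain ⟨k, hk⟩ := S.2 ⟨s, hs⟩
    exact hexp' k s ((hmemC _).1 s.2) (congrArg (fun x : (S : Subgroup C) => ((x : C) : G)) hk)
  have hScomm : ∀ s t : C, s ∈ (S : Subgroup C) → t ∈ (S : Subgroup C) → (s : G) * t = t * s := by
    intro s t hs ht
    have h := hS2 _ (mul_mem hs ht)
    rw [Subgroup.coe_mul] at h
    calc (s : G) * t = (s * t : G)⁻¹ := (inv_eq_of_mul_eq_one_right h).symm
      _ = t * s := by
        rw [mul_inv_rev, inv_eq_of_mul_eq_one_right (hS2 s hs), inv_eq_of_mul_eq_one_right (hS2 t ht)]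
  have hSE : (S : Subgroup C) = E8C := by
    refine le_antisymm (fun s hs => ?_) hS
    have hsJ := (hmemC _).1 s.2
    have hsV : (s : G) * v = v * s := hScomm s ⟨v, hEC (hVE v hv)⟩ hs (hS (hVE v hv))
    have hsz : (s : G) * z = z * s := hScomm s ⟨z, hEC hzE⟩ hs (hS hzE)
    have hsN : (s : G) ∈ N := by
      refine ⟨s.2, mem_setStab_of_maps fun x hx => ?_⟩
      rw [D.FV_eq_inter hab hJ hJ1 hv hv1 hvJ] at hx ⊢
      obtain ⟨h1, h2⟩ := mem_inter.1 hx
      exact mem_inter.2 ⟨cent_preserves hsJ h1, cent_preserves hsV h2⟩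
    refine hgood _ hsN (hS2 s hs) (hcu _ ((hsN.2 c).2 hcF) ?_)
    show z • (s : G) • c = (s : G) • c
    rw [smul_smul, ← hsz, mul_smul, hzcc]
  have hfac : (Nat.card C).factorization 2 = 3 := by
    have h := S.card_eq_multiplicity
    rw [hSE, hE8C, show (8 : ℕ) = 2 ^ 3 by norm_num] at h
    exact (Nat.pow_right_injective le_rfl h).symm
  -- the permutation group induced by the centralizer
  have hCΦ : C ≤ setStab G Φ := fun g hg =>
    mem_setStab_of_maps fun x hx => cent_preserves ((hmemC g).1 hg) hx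
  let φ := actHom C Φ hCΦ
  let ψ : C →* φ.range := φ.rangeRestrict
  have hJC : J ∈ C := (hmemC J).2 rfl
  have hψJ : ψ ⟨J, hJC⟩ = 1 := Subtype.ext (actHom_eq_one.2 fun x hx => mem_fx.1 hx)
  have hψ1 : ∀ g : C, ψ g = 1 → (g : G) = 1 ∨ (g : G) = J := fun g hg =>
    D.cent_fixing hK hJT ((hmemC _).1 g.2) (actHom_eq_one.1 (congrArg Subtype.val hg))
  have hψsurj : Function.Surjective ψ := φ.rangeRestrict_surjective
  have hψker : Nat.card ψ.ker = 2 := by
    rw [show ψ.ker = Subgroup.zpowers (⟨J, hJC⟩ : C) from ?_, Nat.card_zpowers, Subgroup.orderOf_mk,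
      orderOf_eq_prime (by rw [sq, hJ.2.2]) hJ1]
    refine le_antisymm (fun g hg => ?_) (Subgroup.zpowers_le.2 hψJ)
    rcases hψ1 g hg with e | e
    · rw [show g = 1 from Subtype.ext e]; exact one_mem _
    · rw [show g = ⟨J, hJC⟩ from Subtype.ext e]; exact Subgroup.mem_zpowers _
  have hcomap : ∀ H : Subgroup φ.range, Nat.card (H.comap ψ) = 2 * Nat.card H := by
    intro H
    have h1 := Subgroup.card_mul_index (H.comap ψ)
    rw [Subgroup.index_comap_of_surjective _ hψsurj] at h1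
    have h3 := Subgroup.card_mul_index H
    have h4 := ψ.ker.card_mul_index
    rw [Subgroup.index_ker, MonoidHom.range_eq_top.2 hψsurj, Subgroup.card_top, hψker] at h4
    refine Nat.eq_of_mul_eq_mul_right (Nat.pos_of_ne_zero (Subgroup.index_ne_zero_of_finite (H := H))) ?_
    calc Nat.card (H.comap ψ) * H.index = Nat.card C := h1
      _ = 2 * Nat.card φ.range := h4.symm
      _ = _ := by rw [← h3]; ring
  have hX : Nat.card φ.range = 2 * (f * (f - 1)) := by
    have h := hcomap ⊤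
    rw [Subgroup.comap_top, Subgroup.card_top, Subgroup.card_top, D.card_cent hJT, ← hf'] at h
    omega
  let P := S.mapSurjective hψsurj
  have hPmem : ∀ x : φ.range, x ∈ (P : Subgroup φ.range) ↔
      ∃ s : C, (s : G) ∈ E8 ∧ ψ s = x := fun x => by
    show x ∈ ((S : Subgroup C).map ψ) ↔ _
    rw [hSE, Subgroup.mem_map]
    rfl
  have hP4 : Nat.card (P : Subgroup φ.range) = 4 := by
    have hC0 := hcomap ⊤
    rw [Subgroup.comap_top, Subgroup.card_top, Subgroup.card_top] at hC0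
    rw [hC0, Nat.factorization_mul two_ne_zero Nat.card_pos.ne', Finsupp.add_apply,
      Nat.prime_two.factorization_self] at hfac
    rw [P.card_eq_multiplicity, show (Nat.card φ.range).factorization 2 = 2 by omega]
    norm_num
  have hP : IsKleinFour (P : Subgroup φ.range) := by
    haveI : Nontrivial (P : Subgroup φ.range) := Finite.one_lt_card_iff_nontrivial.1 (by omega)
    refine ⟨hP4, (Monoid.exponent_eq_prime_iff Nat.prime_two).2 fun g hg => orderOf_eq_prime ?_ hg⟩
    obtain ⟨s, hs, hsg⟩ := (hPmem _).1 g.2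
    apply Subtype.ext
    rw [SubgroupClass.coe_pow, ← hsg, sq, ← map_mul]
    rw [show s * s = 1 from Subtype.ext (hS2 s (by rw [hSE]; exact hs)), map_one]
    rfl
  let v' : C := ⟨v, hEC (hVE v hv)⟩
  let z' : C := ⟨z, hEC hzE⟩
  have hψv : ψ v' ≠ 1 := fun h => by
    rcases hψ1 v' h with e | e
    exacts [hv1 e, hvJ e]
  have hψvo : orderOf (ψ v') = 2 := orderOf_eq_prime
    (by rw [sq, ← map_mul, show v' * v' = 1 from Subtype.ext hv.1.2.2, map_one]) hψv
  have hψmulJ : ∀ g h : C, (g : G) = h * J → ψ g = ψ h := fun g h hgh => by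
    rw [show g = h * ⟨J, hJC⟩ from Subtype.ext hgh, map_mul, hψJ, mul_one]
  -- one class of involutions
  have hone : ∀ s t : φ.range, orderOf s = 2 → orderOf t = 2 → IsConj s t := by
    have hall : ∀ s : φ.range, orderOf s = 2 → IsConj (ψ v') s := by
      intro s hs
      obtain ⟨g, rfl⟩ := hψsurj s
      have hgJ := (hmemC _).1 g.2
      have hgne : (g : G) ≠ 1 ∧ (g : G) ≠ J := by
        refine ⟨fun e => ?_, fun e => ?_⟩
        · rw [show g = 1 from Subtype.ext e, map_one, orderOf_one] at hs; omega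
        · rw [show g = ⟨J, hJC⟩ from Subtype.ext e, hψJ, orderOf_one] at hs; omega
      obtain ⟨x, hx, hgx⟩ := hmove _ hgJ hgne.1 hgne.2
      have hgg1 : ψ (g * g) = 1 := by rw [map_mul, ← sq, ← hs, pow_orderOf_eq_one]
      have hgg : (g : G) * g = 1 := hsq _ hgJ x hx hgx (by
        rw [smul_smul, ← Subgroup.coe_mul]
        rcases hψ1 _ hgg1 with e | e <;> rw [e]
        exacts [one_smul G x, mem_fx.1 hx])
      obtain ⟨h1, -, -, h4⟩ := mem_kern.1 (hswap _ hgJ hgg hgne.1 hgne.2)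
      obtain ⟨p, hp, r, hr, hpr⟩ := one_lt_card.1 h4
      obtain ⟨k, hk, rfl, rfl⟩ := D.cent_trans hJT (mem_fx.2 hJ.1) (mem_fx.2 hJ.2.1) (mem_inter.1 hp).1
        (mem_inter.1 hr).1 hab hpr
      have hkJ : k⁻¹ * J * k = J := by rw [mul_assoc, ← hk, inv_mul_cancel_left]
      have hw : InJ J a b (k⁻¹ * (g : G) * k) := by
        refine ⟨⟨?_, ?_, ?_⟩, ((Commute.mul_left (Commute.inv_left hk) hgJ).mul_left hk).eq⟩
        · rw [mul_smul, mul_smul, mem_fx.1 (mem_inter.1 hp).2, inv_smul_smul]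
        · rw [mul_smul, mul_smul, mem_fx.1 (mem_inter.1 hr).2, inv_smul_smul]
        · rw [show k⁻¹ * (g : G) * k * (k⁻¹ * g * k) = k⁻¹ * (g * g) * k by group, hgg]; group
      let k' : C := ⟨k, (hmemC k).2 hk⟩
      refine (?_ : IsConj (ψ v') (ψ (k'⁻¹ * g * k'))).trans
        (isConj_iff.2 ⟨ψ k', by rw [map_mul, map_mul, map_inv]; group⟩)
      rcases D.inJ_cases hab hJ hJ1 hv hv1 hvJ hw with e | e | e | e
      · exact absurd (conj_eq_one_iff.1 (show k⁻¹ * (g : G) * k⁻¹⁻¹ = 1 by rwa [inv_inv])) hgne.1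
      · exact absurd (mul_left_cancel (mul_right_cancel (e.trans hkJ.symm))) hgne.2
      · rw [show k'⁻¹ * g * k' = v' from Subtype.ext e]
      · rw [hψmulJ (k'⁻¹ * g * k') v' e]
    exact fun s t hs ht => (hall s hs).symm.trans (hall t ht)
  have h := klein_value P hP hone (J := ψ v') ((hPmem _).2 ⟨v', hVE v hv, rfl⟩) hψvo
  -- the centralizer of an involution
  have hNC : N ≤ C := inf_le_left
  have hψcomm : ∀ g h : C, ((g : G) * h * (g : G)⁻¹ = h ∨ (g : G) * h * (g : G)⁻¹ = h * J) →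
      ψ g * ψ h = ψ h * ψ g := by
    intro g h hgh
    rw [← mul_inv_eq_iff_eq_mul, ← map_inv, ← map_mul, ← map_mul]
    rcases hgh with e | e
    · exact congrArg ψ (Subtype.ext e)
    · exact hψmulJ _ _ e
  have hcomm' : ∀ g h : C, ψ g * ψ h = ψ h * ψ g →
      (g : G) * h * (g : G)⁻¹ = h ∨ (g : G) * h * (g : G)⁻¹ = h * J := by
    intro g h hgh
    have : ψ (h⁻¹ * (g * h * g⁻¹)) = 1 := by
      rw [map_mul, map_mul, map_mul, map_inv, map_inv, hgh]; group
    rcases hψ1 _ this with e | e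
    · exact Or.inl (inv_mul_eq_one.1 e).symm
    · exact Or.inr (inv_mul_eq_iff_eq_mul.1 e)
  have hcapV : ∀ g : C, ψ g * ψ v' = ψ v' * ψ g ↔ (g : G) ∈ N := by
    refine fun g => ⟨fun hg => ⟨g.2, mem_setStab_of_maps fun x hx => ?_⟩,
      fun hg => hψcomm g v' (D.normV_cases hab hJ hJ1 hv hv1 hvJ hg)⟩
    have hgJ := (hmemC _).1 g.2
    have hsame : fx (Ω := Ω) J ∩ fx ((g : G) * v * (g : G)⁻¹) = F := by
      rcases hcomm' g v' hg with e | e <;> rw [e]
      · exact D.inter_fx_eq hab hJ hv hJ1 hv1 hvJ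
      · exact D.inter_fx_eq hab hJ hvJV hJ1 (fun e => hvJ (mul_right_cancel (e.trans hJ.2.2.symm)))
          (fun e => hv1 (mul_eq_right.1 e))
    rw [D.FV_eq_inter hab hJ hJ1 hv hv1 hvJ] at hx
    obtain ⟨h1, h2⟩ := mem_inter.1 hx
    rw [show FV J a b = _ from hsame.symm]
    exact mem_inter.2 ⟨cent_preserves hgJ h1, mem_fx_conj.2 h2⟩
  have hcX : Nat.card (Subgroup.centralizer ({ψ v'} : Set φ.range)) = 2 * ((q + 1) * q) := by
    have h1 := hcomap (Subgroup.centralizer ({ψ v'} : Set φ.range))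
    rw [show (Subgroup.centralizer ({ψ v'} : Set φ.range)).comap ψ = N.subgroupOf C from
      SetLike.ext fun g => Subgroup.mem_centralizer_singleton_iff.trans (hcapV g),
      Nat.card_congr (Subgroup.subgroupOfEquivOfLe hNC).toEquiv, hN, D.card_normV hab hJ hJ1,
      ← hFdef, ← he', hq, Nat.add_sub_cancel] at h1
    omega
  -- the centralizer of the four-group
  set M := N ⊓ stabilizer G c with hM
  have hMcard : Nat.card M = 4 * q := by
    have h1 := card_subgroup_point N F hcF (fun g hg x hx => (hg.2 x).2 hx) fun x hx => by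
      obtain ⟨r, hr, hrc⟩ := exists_mem_ne (by omega : 1 < F.card) c
      obtain ⟨r', hr', hrx⟩ := exists_mem_ne (by omega : 1 < F.card) x
      obtain ⟨g1, hg1, e1, -⟩ := D.normV_trans hab hJ hJ1 hcF hr hrc.symm
      obtain ⟨g2, hg2, e2, -⟩ := D.normV_trans hab hJ hJ1 hx hr' hrx.symm
      exact ⟨g2 * g1⁻¹, mul_mem hg2 (inv_mem hg1), by rw [mul_smul, ← e1, inv_smul_smul, e2]⟩
    rw [hN, D.card_normV hab hJ hJ1, ← hFdef, ← he', hq, Nat.add_sub_cancel] at h1
    refine Nat.eq_of_mul_eq_mul_left (show 0 < q + 1 by omega) ?_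
    rw [← h1]; ring
  have hMz : ∀ g ∈ M, g * z * g⁻¹ = z ∨ g * z * g⁻¹ = z * J := by
    intro g hg
    let M0 : Subgroup G :=
      { carrier := {g | g * J = J * g ∧ (g * z * g⁻¹ = z ∨ g * z * g⁻¹ = z * J)}
        one_mem' := ⟨by rw [one_mul, mul_one], Or.inl (by group)⟩
        mul_mem' := fun {g h} hg hh => by
          refine ⟨(Commute.mul_left hg.1 hh.1).eq, ?_⟩
          have e : g * h * z * (g * h)⁻¹ = g * (h * z * h⁻¹) * g⁻¹ := by group
          have eJ : g * (z * J) * g⁻¹ = g * z * g⁻¹ * J := by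
            rw [← conj_mul, hg.1, mul_inv_cancel_right]
          rw [e]
          rcases hh.2 with e' | e' <;> rw [e']
          · exact hg.2
          · rw [eJ]
            rcases hg.2 with e'' | e'' <;> rw [e'']
            · exact Or.inr rfl
            · exact Or.inl (by rw [mul_assoc, hJ.2.2, mul_one])
        inv_mem' := fun {g} hg => by
          refine ⟨(Commute.inv_left hg.1).eq, ?_⟩
          rcases hg.2 with e | e
          · left
            rw [inv_inv]
            conv_lhs => rw [← e]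
            group
          · right
            rw [inv_inv]
            have e2 : z = g * (z * J) * g⁻¹ := by
              rw [← conj_mul, hg.1, mul_inv_cancel_right, e, mul_assoc, hJ.2.2, mul_one]
            conv_lhs => rw [e2]
            group }
    suffices g ∈ M0 from this.2
    obtain ⟨hgN, hgc⟩ := hg
    have hgJ := (hmemC g).1 hgN.1
    -- the square
    have hzgV : InJ J a b (z * (g * z * g⁻¹)) := by
      refine hWfib _ (mul_mem (mul_mem hgN hzN) (inv_mem hgN)) (by rw [conj_mul, hzz]; group) (fun h => ?_) ?_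
      · have := D.normV_inJ_conj hab hJ hJ1 (inv_mem hgN) h
        rw [show g⁻¹ * (g * z * g⁻¹) * g⁻¹⁻¹ = z by group] at this
        exact hab (this.1.1.symm.trans hz.1)
      · rw [mul_smul, mul_smul, inv_smul_eq_iff.2 (show g • c = c from hgc).symm, hzcc]
        exact hgc
    set w := z * (g * z * g⁻¹) with hw
    have hgz : g * z * g⁻¹ = z * w := by rw [hw, ← mul_assoc, hzz, one_mul]
    have hsqM : g * g ∈ M0 := by
      refine ⟨(Commute.mul_left hgJ hgJ).eq, ?_⟩
      have e1 : g * g * z * (g * g)⁻¹ = z * (w * (g * w * g⁻¹)) := by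
        calc g * g * z * (g * g)⁻¹ = g * (g * z * g⁻¹) * g⁻¹ := by group
          _ = g * z * g⁻¹ * (g * w * g⁻¹) := by rw [conj_mul, hgz]
          _ = _ := by rw [hgz, mul_assoc]
      rw [e1]
      have hgw : ∀ u : G, u = v ∨ u = v * J → g * u * g⁻¹ = v ∨ g * u * g⁻¹ = v * J := by
        intro u hu
        rcases hu with rfl | rfl
        · exact D.normV_cases hab hJ hJ1 hv hv1 hvJ hgN
        · rw [← conj_mul, hgJ, mul_inv_cancel_right]
          rcases D.normV_cases hab hJ hJ1 hv hv1 hvJ hgN with e | e <;> rw [e]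
          · exact Or.inr rfl
          · exact Or.inl (by rw [mul_assoc, hJ.2.2, mul_one])
      have hvj := hv.2
      rcases D.inJ_cases hab hJ hJ1 hv hv1 hvJ hzgV with e | e | e | e <;> rw [e]
      · exact Or.inl (by group)
      · exact Or.inl (by rw [hgJ, mul_inv_cancel_right, hJ.2.2, mul_one])
      · rcases hgw v (Or.inl rfl) with e' | e' <;> rw [e']
        · exact Or.inl (by rw [hv.1.2.2, mul_one])
        · exact Or.inr (by rw [← mul_assoc v, hv.1.2.2, one_mul])
      · rcases hgw _ (Or.inr rfl) with e' | e' <;> rw [e']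
        · refine Or.inr ?_
          rw [hvj, mul_assoc J, hv.1.2.2, mul_one]
        · exact Or.inl (by rw [hvJV.1.2.2, mul_one])
    obtain ⟨k, m, ⟨i, hi⟩, hkm⟩ := Nat.exists_eq_two_pow_mul_odd (orderOf_pos g).ne'
    have hgm2 : g ^ m ∈ M0 := by
      have hmN : g ^ m ∈ N := pow_mem hgN m
      have h2 := hexp' k (g ^ m) ((hmemC _).1 hmN.1)
        (by rw [← pow_mul, mul_comm, ← hkm, pow_orderOf_eq_one])
      have hE := hgood _ hmN h2 (pow_mem (show g ∈ stabilizer G c from hgc) m)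
      refine ⟨(hmemC _).1 hmN.1, Or.inl ?_⟩
      rw [mul_inv_eq_iff_eq_mul]
      exact hScomm ⟨_, hEC hE⟩ z' (by rw [hSE]; exact hE) (by rw [hSE]; exact hzE)
    have : g = ((g * g) ^ i)⁻¹ * g ^ m := by
      rw [← pow_two, ← pow_mul, hi, pow_succ g (2 * i), inv_mul_cancel_left]
    rw [this]
    exact mul_mem (inv_mem (pow_mem hsqM i)) hgm2
  have hcP : Nat.card (Subgroup.centralizer ((P : Subgroup φ.range) : Set φ.range)) = 2 * q := by
    have h1 := hcomap (Subgroup.centralizer ((P : Subgroup φ.range) : Set φ.range))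
    rw [show (Subgroup.centralizer ((P : Subgroup φ.range) : Set φ.range)).comap ψ = M.subgroupOf C from ?_,
      Nat.card_congr (Subgroup.subgroupOfEquivOfLe (inf_le_left.trans hNC : M ≤ C)).toEquiv, hMcard] at h1
    · omega
    refine SetLike.ext fun g => ⟨fun hg => ?_, fun hg => ?_⟩
    · have hg' : ψ g ∈ Subgroup.centralizer ((P : Subgroup φ.range) : Set φ.range) := hg
      have e1 := (Subgroup.mem_centralizer_iff.1 hg' (ψ v') ((hPmem _).2 ⟨v', hVE v hv, rfl⟩)).symm
      have e2 := Subgroup.mem_centralizer_iff.1 hg' (ψ z') ((hPmem _).2 ⟨z', hzE, rfl⟩)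
      have hgN : (g : G) ∈ N := (hcapV g).1 e1
      refine ⟨hgN, mem_stabilizer_iff.2 (hcu _ ((hgN.2 c).2 hcF) ?_)⟩
      have h2 := congrArg Subtype.val (Equiv.ext_iff.1 (congrArg Subtype.val e2) ⟨c, hcΦ⟩)
      have h3 : z • (g : G) • c = (g : G) • z • c := h2
      show z • (g : G) • c = (g : G) • c
      rw [h3, hzcc]
    · show ψ g ∈ Subgroup.centralizer ((P : Subgroup φ.range) : Set φ.range)
      refine Subgroup.mem_centralizer_iff.2 fun x hx => ?_
      obtain ⟨s, hs, rfl⟩ := (hPmem x).1 hx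
      have hgN : (g : G) ∈ N := hg.1
      have hgJ := (hmemC _).1 g.2
      have hgv : Commute (ψ g) (ψ v') := hψcomm g v' (D.normV_cases hab hJ hJ1 hv hv1 hvJ hgN)
      have hgz : Commute (ψ g) (ψ z') := hψcomm g z' (hMz _ hg)
      have hV : ∀ u : C, InJ J a b (u : G) → Commute (ψ g) (ψ u) := by
        intro u hu
        rcases D.inJ_cases hab hJ hJ1 hv hv1 hvJ hu with e | e | e | e
        · rw [show u = 1 from Subtype.ext e, map_one]; exact Commute.one_right _
        · rw [show u = ⟨J, hJC⟩ from Subtype.ext e, hψJ]; exact Commute.one_right _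
        · rw [show u = v' from Subtype.ext e]; exact hgv
        · rw [hψmulJ u v' e]; exact hgv
      rcases (hmemE _).1 hs with h | h
      · exact (hV s h).eq.symm
      · have := hgz.mul_right (hV (z' * s) h)
        rw [← map_mul, ← mul_assoc, show z' * z' = 1 from Subtype.ext hzz, one_mul] at this
        exact this.eq.symm
  -- arithmetic
  have hf1 : f - 1 = q * (2 * q + 3) := by
    rw [hfq]
    exact Nat.sub_eq_of_eq_add (by ring)
  rw [hX, hcX, hcP, hf1, hfq] at h
  have hpos : 0 < 8 * ((q + 1) * q ^ 3) := by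
    have : 0 < q := by omega
    positivity
  have e1 : 2 * ((q + 1) * (2 * q + 1) * (q * (2 * q + 3))) * (2 * q) ^ 2 =
      8 * ((q + 1) * q ^ 3) * ((2 * q + 1) * (2 * q + 3)) := by ring
  have e2 : (2 * ((q + 1) * q)) ^ 3 = 8 * ((q + 1) * q ^ 3) * ((q + 1) * (q + 1)) := by ring
  rw [e1, e2] at h
  have e3 : (2 * q + 1) * (2 * q + 3) + 1 = 4 * ((q + 1) * (q + 1)) := by ring
  rcases h.1 with h1 | h1
  · have := Nat.eq_of_mul_eq_mul_left hpos (h1.trans (by ring :
      3 * (8 * ((q + 1) * q ^ 3) * ((q + 1) * (q + 1))) =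
        8 * ((q + 1) * q ^ 3) * (3 * ((q + 1) * (q + 1)))))
    have : 2 ≤ (q + 1) * (q + 1) := (by omega : 2 ≤ q + 1).trans (Nat.le_mul_self _)
    omega
  · have := Nat.lt_of_mul_lt_mul_left (a := 8 * ((q + 1) * q ^ 3))
      (b := 4 * ((q + 1) * (q + 1))) (c := (2 * q + 1) * (2 * q + 3))
      (lt_of_eq_of_lt (by ring) h1)
    omega

end Hyp

end CfsgLib.TwoPointA5
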