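import Cfsg.Agent.TwoPointA5.Klein5

/-!
# The Diophantine conditions from the structure constant
-/

set_option autoImplicit false

namespace CfsgLib.TwoPointA5

/-- Ratio in `(63/5, 15)`. -/
theorem kc_gap_high {A B : ℕ} (h : KleinCases A B) (hB : 0 < B) (h1 : 63 * B < 5 * A) (h2 : A ≠ 15 * B) :
    False := by
  rcases h.bounds hB with h | ⟨x, -, -, h⟩ | h | ⟨w, -, -, -, h, -⟩ | ⟨y, w, -, -, -, -, -, h, -⟩ <;> omega

/-- Ratio in `(71/7, 12]`. -/
theorem kc_gap_mid {A B : ℕ} (h : KleinCases A B) (hB : 0 < B) (h1 : 71 * B < 7 * A) (h2 : A ≤ 12 * B) :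
    False := by
  rcases h.bounds hB with h | ⟨x, -, -, h⟩ | h | ⟨w, -, -, h, -, -⟩ | ⟨y, w, -, -, -, -, -, h, -⟩ <;> omega

/-- The ratio is at most fifteen. -/
theorem kc_le {A B : ℕ} (h : KleinCases A B) (hB : 0 < B) : A ≤ 15 * B := by
  rcases h.bounds hB with h | ⟨x, -, -, h⟩ | h | ⟨w, -, -, -, h, -⟩ | ⟨y, w, -, -, -, -, -, h, -⟩ <;> omega

theorem kc_975 {k : ℕ} (hk : 0 < k) (h : KleinCases (975 * k) (81 * k)) : False := by
  rcases (KleinCases.of_mul hk (by rwa [mul_comm k, mul_comm k] : KleinCases (k * 975) (k * 81))).bounds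
      (by norm_num) with h | ⟨x, -, -, h⟩ | h | ⟨w, hw, hw4, -, -, h⟩ | ⟨y, w, -, -, -, -, -, h, -⟩
  any_goals omega
  have h' : w * (w + 2) = 975 := by
    generalize w * (w + 2) = m at h ⊢
    omega
  rcases (by omega : w ≤ 29 ∨ 31 ≤ w) with hb | hb
  · have := Nat.mul_le_mul hb (show w + 2 ≤ 31 by omega)
    omega
  · have := Nat.mul_le_mul hb (show 33 ≤ w + 2 by omega)
    omega

theorem kc_25 {k : ℕ} (hk : 0 < k) (h : KleinCases (25 * k) (3 * k)) : False := by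
  rcases (KleinCases.of_mul hk (by rwa [mul_comm k, mul_comm k] : KleinCases (k * 25) (k * 3))).bounds
      (by norm_num) with h | ⟨x, -, -, h⟩ | h | ⟨w, -, -, h, -, -⟩ | ⟨y, w, hy, hyw, hy4, -, -, -, h⟩
  any_goals omega
  have hy' : (7 : ℤ) ≤ y := by exact_mod_cast hy
  have hw' : (y : ℤ) ≤ w := by exact_mod_cast hyw
  have hpos : (y : ℤ) * (2 * y - 1) ≤ w * (w + y - 1) := by nlinarith
  have hlo : 25 < y := by
    by_contra hc
    push Not at hc
    have hc' : (y : ℤ) ≤ 25 := by exact_mod_cast hc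
    push_cast at h
    nlinarith [mul_le_mul_of_nonneg_right hc' (show (0 : ℤ) ≤ w * (w + y - 1) by nlinarith)]
  have hhi : y ≤ 37 := by
    by_contra hc
    push Not at hc
    have hc' : (38 : ℤ) ≤ y := by exact_mod_cast hc
    push_cast at h
    nlinarith [mul_le_mul (show (13 : ℤ) ≤ y - 25 by linarith) hpos (by nlinarith) (by linarith)]
  push_cast at h
  interval_cases y <;> (try omega) <;> push_cast at h
  · rcases (by omega : w ≤ 81 ∨ 82 ≤ w) with hb | hb <;> have hb' := (Int.ofNat_le.2 hb) <;>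
      push_cast at hb' <;> nlinarith
  · rcases (by omega : w ≤ 49 ∨ 50 ≤ w) with hb | hb <;> have hb' := (Int.ofNat_le.2 hb) <;>
      push_cast at hb' <;> nlinarith
  · rcases (by omega : w ≤ 40 ∨ 41 ≤ w) with hb | hb <;> have hb' := (Int.ofNat_le.2 hb) <;>
      push_cast at hb' <;> nlinarith

theorem kc_79 {k : ℕ} (hk : 0 < k) (h : KleinCases (79 * k) (9 * k)) : False := by
  rcases (KleinCases.of_mul hk (by rwa [mul_comm k, mul_comm k] : KleinCases (k * 79) (k * 9))).bounds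
      (by norm_num) with h | ⟨x, -, -, h⟩ | h | ⟨w, -, -, h, -, -⟩ | ⟨y, w, hy, hyw, hy4, -, -, -, h⟩
  any_goals omega
  have hy' : (7 : ℤ) ≤ y := by exact_mod_cast hy
  have hw' : (y : ℤ) ≤ w := by exact_mod_cast hyw
  have hpos : (y : ℤ) * (2 * y - 1) ≤ w * (w + y - 1) := by nlinarith
  have hlo : 11 < y := by
    by_contra hc
    push Not at hc
    have hc' : (y : ℤ) ≤ 11 := by exact_mod_cast hc
    push_cast at h
    nlinarith [mul_le_mul_of_nonneg_right hc' (show (0 : ℤ) ≤ w * (w + y - 1) by nlinarith)]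
  have hhi : y ≤ 16 := by
    by_contra hc
    push Not at hc
    have hc' : (17 : ℤ) ≤ y := by exact_mod_cast hc
    push_cast at h
    nlinarith [mul_le_mul (show (40 : ℤ) ≤ 7 * y - 79 by linarith) hpos (by nlinarith) (by linarith)]
  obtain rfl : y = 15 := by omega
  push_cast at h
  generalize (w : ℤ) * (w + 15 - 1) = m at h
  omega

/-- The ratio `(32 e² - 16 e + 15) / (2 e + 1)²`. -/
theorem kc_four {A B e k : ℕ} (he : 2 ≤ e) (hk : 0 < k) (hA : A + k * (16 * e) = k * (32 * e ^ 2 + 15))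
    (hB : B = k * (2 * e + 1) ^ 2) (h : KleinCases A B) : False := by
  have hB0 : 0 < B := by rw [hB]; positivity
  have hA' : (A : ℤ) = k * (32 * (e : ℤ) ^ 2 - 16 * e + 15) := by
    have : (A : ℤ) + k * (16 * e) = k * (32 * (e : ℤ) ^ 2 + 15) := by exact_mod_cast hA
    linarith
  have hB' : (B : ℤ) = k * (2 * (e : ℤ) + 1) ^ 2 := by exact_mod_cast hB
  have hk' : (0 : ℤ) < k := by exact_mod_cast hk
  have he' : (2 : ℤ) ≤ e := by exact_mod_cast he
  have hlt : A < 8 * B := by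
    have : (A : ℤ) < 8 * B := by rw [hA', hB']; nlinarith
    exact_mod_cast this
  rcases h.bounds hB0 with h | ⟨x, hx, h, -⟩ | h | ⟨w, -, -, h1, -, -⟩ | ⟨y, w, -, -, -, -, h1, -, -⟩
  any_goals omega
  · have h' : (A : ℤ) = 3 * B := by exact_mod_cast h
    rw [hA', hB'] at h'
    have := mul_left_cancel₀ hk'.ne' (h'.trans (by ring : _ = (k : ℤ) * (3 * (2 * (e : ℤ) + 1) ^ 2)))
    nlinarith [sq_nonneg (5 * (e : ℤ) - 4)]
  · have h' : (A : ℤ) * ((x : ℤ) + 1) ^ 2 = 4 * B * (x * (2 * x + 1)) := by exact_mod_cast h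
    rw [hA', hB'] at h'
    have h2 : (32 * (e : ℤ) ^ 2 - 16 * e + 15) * ((x : ℤ) + 1) ^ 2 =
        4 * (2 * (e : ℤ) + 1) ^ 2 * (x * (2 * x + 1)) :=
      mul_left_cancel₀ hk'.ne' (by linear_combination h')
    obtain ⟨E, hE⟩ : ∃ E : ℤ, E = 2 * e + 1 := ⟨_, rfl⟩
    obtain ⟨Q, hQ⟩ : ∃ Q : ℤ, Q = 2 * x + 2 := ⟨_, rfl⟩
    have h3 : 24 * E * Q * (E - Q) = 16 * E ^ 2 - 31 * Q ^ 2 := by
      subst hE hQ; linear_combination (4 : ℤ) * h2
    have hE5 : 5 ≤ E := by omega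
    have hQ5 : 12 ≤ Q := by omega
    obtain ⟨d, hd⟩ : ∃ d, Q = E + d := ⟨Q - E, by ring⟩
    subst hd
    rcases (by omega : d ≤ -1 ∨ d = 0 ∨ d = 1 ∨ 2 ≤ d) with hd | hd | hd | hd
    · nlinarith [mul_le_mul_of_nonneg_left (show 1 ≤ -d by linarith) (show (0 : ℤ) ≤ 24 * E * (E + d) by nlinarith),
        mul_le_mul_of_nonneg_left hQ5 (show (0 : ℤ) ≤ E by linarith)]
    · subst hd; nlinarith
    · subst hd
      rcases (by omega : E ≤ 5 ∨ 6 ≤ E) with hb | hb
      · obtain rfl : E = 5 := by omega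
        omega
      · nlinarith
    · nlinarith [mul_le_mul_of_nonneg_left hd (show (0 : ℤ) ≤ E * E by positivity),
        mul_le_mul_of_nonneg_left hd (show (0 : ℤ) ≤ E by linarith),
        mul_le_mul_of_nonneg_right hE5 (show (0 : ℤ) ≤ d * d by positivity),
        mul_le_mul_of_nonneg_right hE5 (show (0 : ℤ) ≤ E * d by nlinarith)]

end CfsgLib.TwoPointA5
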