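import Cfsg.Agent.TwoPointA5.Swap
import Cfsg.Agent.TwoPointA4.Count

/-!
# The fixed points of the four-groups; counting
-/

set_option autoImplicit false
set_option linter.unusedSectionVars false

namespace CfsgLib.TwoPointA5

open MulAction Finset CfsgLib.TwoPointA4
open scoped Classical

universe u v

variable {G : Type u} {Ω : Type v} [Group G] [MulAction G Ω] [Fintype Ω] [Fintype G]

/-- The fixed points of the four-group of `a`, `b` and `J`. -/
noncomputable def FV (J : G) (a b : Ω) : Finset Ω :=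
  univ.filter fun x => ∀ v : G, InJ J a b v → v • x = x

theorem mem_FV {J : G} {a b x : Ω} : x ∈ FV J a b ↔ ∀ v : G, InJ J a b v → v • x = x := by simp [FV]

theorem left_mem_FV (J : G) (a b : Ω) : a ∈ FV J a b := mem_FV.2 fun _ h => h.1.1

theorem right_mem_FV (J : G) (a b : Ω) : b ∈ FV J a b := mem_FV.2 fun _ h => h.1.2.1

theorem FV_subset_fx {J : G} {a b : Ω} {v : G} (hv : InJ J a b v) : FV J a b ⊆ fx v := fun _ hx =>
  mem_fx.2 (mem_FV.1 hx v hv)

theorem FV_comm (J : G) (a b : Ω) : FV J b a = FV J a b := by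
  ext x
  simp only [mem_FV, inJ_comm']

theorem mem_FV_conj {J : G} {a b x : Ω} (g : G) :
    g • x ∈ FV (g * J * g⁻¹) (g • a) (g • b) ↔ x ∈ FV J a b := by
  rw [mem_FV, mem_FV]
  constructor
  · intro h v hv
    have := h _ (hv.conj g)
    rwa [conj_smul, smul_left_cancel_iff] at this
  · intro h v hv
    have h' := hv.conj g⁻¹
    rw [inv_smul_smul, inv_smul_smul, inv_inv, show g⁻¹ * (g * J * g⁻¹) * g = J by group] at h'
    have := h _ h'
    rwa [mul_smul, mul_smul, inv_smul_eq_iff] at this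

theorem mem_FV_cent {J : G} {a b x : Ω} {g : G} (hg : g * J = J * g) :
    g • x ∈ FV J (g • a) (g • b) ↔ x ∈ FV J a b := by
  have := mem_FV_conj (J := J) (a := a) (b := b) (x := x) g
  rwa [hg, mul_inv_cancel_right] at this

theorem card_FV_conj (J : G) (a b : Ω) (g : G) :
    (FV (g * J * g⁻¹) (g • a) (g • b)).card = (FV J a b).card := by
  refine (card_bij (fun x _ => g • x) (fun x hx => (mem_FV_conj g).2 hx)
    (fun _ _ _ _ h => smul_left_cancel g h) fun y hy => ⟨g⁻¹ • y, ?_, smul_inv_smul g y⟩).symm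
  rw [← mem_FV_conj g, smul_inv_smul]
  exact hy

/-- All involutions of a four-group have the same fixed points. -/
def KV (G : Type u) (Ω : Type v) [Group G] [MulAction G Ω] [Fintype Ω] [Fintype G] :
    Prop :=
  ∀ a b : Ω, a ≠ b → ∀ J : G, InV a b J → J ≠ 1 → fx (Ω := Ω) J = FV J a b

/-- The stabilizer in the centralizer of `J` of the fixed points of a four-group. -/
noncomputable def normV (J : G) (a b : Ω) : Subgroup G :=
  Subgroup.centralizer ({J} : Set G) ⊓ setStab G (FV J a b)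

theorem mem_normV_of_maps {J : G} {a b : Ω} {g : G} (hg : g * J = J * g)
    (h : ∀ x ∈ FV J a b, g • x ∈ FV J a b) : g ∈ normV J a b :=
  ⟨Subgroup.mem_centralizer_singleton_iff.2 hg, mem_setStab_of_maps h⟩

namespace Hyp

variable (D : Hyp G Ω)
include D

theorem FV_eq_inter {a b : Ω} (hab : a ≠ b) {J v : G} (hJ : InV a b J) (hJ1 : J ≠ 1)
    (hv : InJ J a b v) (hv1 : v ≠ 1) (hvJ : v ≠ J) : FV J a b = fx J ∩ fx v := by
  refine subset_antisymm (fun x hx => mem_inter.2 ⟨FV_subset_fx (inJ_self hJ) hx, FV_subset_fx hv hx⟩)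
    fun x hx => mem_FV.2 fun u hu => ?_
  obtain ⟨h1, h2⟩ := mem_inter.1 hx
  rw [mem_fx] at h1 h2
  rcases D.inJ_cases hab hJ hJ1 hv hv1 hvJ hu with rfl | rfl | rfl | rfl
  exacts [one_smul G x, h1, h2, by rw [mul_smul, h1, h2]]

theorem inV_of_mem {a b c d : Ω} {J : G} (hJ : InV a b J) (hc : c ∈ FV J a b)
    (hd : d ∈ FV J a b) : InV c d J :=
  ⟨mem_FV.1 hc J (inJ_self hJ), mem_FV.1 hd J (inJ_self hJ), hJ.2.2⟩

theorem inJ_iff_of_mem {a b c d : Ω} (hab : a ≠ b) {J : G} (hJ : InV a b J) (hJ1 : J ≠ 1)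
    (hc : c ∈ FV J a b) (hd : d ∈ FV J a b) (hcd : c ≠ d) {g : G} : InJ J c d g ↔ InJ J a b g := by
  have hsub : (univ.filter fun g : G => InJ J a b g) ⊆ univ.filter fun g : G => InJ J c d g := fun g hg =>
    mem_filter.2 ⟨mem_univ _, ⟨mem_FV.1 hc g (mem_filter.1 hg).2, mem_FV.1 hd g (mem_filter.1 hg).2,
      (mem_filter.1 hg).2.1.2.2⟩, (mem_filter.1 hg).2.2⟩
  have he := eq_of_subset_of_card_le hsub
    (by rw [D.card_inJ hcd (D.inV_of_mem hJ hc hd) hJ1, D.card_inJ hab hJ hJ1])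
  have := Finset.ext_iff.1 he g
  simp only [mem_filter, Finset.mem_univ, true_and] at this
  exact this.symm

theorem FV_eq_of_mem {a b c d : Ω} (hab : a ≠ b) {J : G} (hJ : InV a b J) (hJ1 : J ≠ 1)
    (hc : c ∈ FV J a b) (hd : d ∈ FV J a b) (hcd : c ≠ d) : FV J c d = FV J a b := by
  ext x
  simp only [mem_FV, D.inJ_iff_of_mem hab hJ hJ1 hc hd hcd]

theorem card_FV_eq {a b c d : Ω} (hab : a ≠ b) {J : G} (hJ : InV a b J) (hJ1 : J ≠ 1) (hcd : c ≠ d)
    {K : G} (hK : InV c d K) (hK1 : K ≠ 1) : (FV K c d).card = (FV J a b).card := by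
  obtain ⟨g, rfl, rfl⟩ := D.trans a b c d hab hcd
  obtain ⟨h, ha, hb, hh⟩ := D.inV_conj_inV hcd (hJ.conj g) (fun e => hJ1 (conj_eq_one_iff.1 e)) hK hK1
  have := card_FV_conj (g * J * g⁻¹) (g • a) (g • b) h
  rw [hh, ha, hb, card_FV_conj] at this
  exact this

theorem two_le_card_FV {a b : Ω} (hab : a ≠ b) (J : G) : 2 ≤ (FV J a b).card :=
  one_lt_card.2 ⟨a, left_mem_FV J a b, b, right_mem_FV J a b, hab⟩

theorem kv_of_eq {a b : Ω} (hab : a ≠ b) {J : G} (hJ : InV a b J) (hJ1 : J ≠ 1)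
    (he : fx (Ω := Ω) J = FV J a b) : KV G Ω := by
  intro c d hcd w hw hw1
  obtain ⟨g, rfl, rfl⟩ := D.trans a b c d hab hcd
  obtain ⟨h, hc, hd, hh⟩ := D.inV_conj_inV hcd (hJ.conj g) (fun e => hJ1 (conj_eq_one_iff.1 e)) hw hw1
  have hk : (h * g) * J * (h * g)⁻¹ = w := by rw [← hh]; group
  ext y
  obtain ⟨x, rfl⟩ : ∃ x, (h * g) • x = y := ⟨(h * g)⁻¹ • y, smul_inv_smul _ y⟩
  have e := mem_FV_conj (J := J) (a := a) (b := b) (x := x) (h * g)
  rw [hk, mul_smul h g a, mul_smul h g b, hc, hd] at e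
  rw [e, ← hk, mem_fx_conj, he]

theorem card_FV_lt (hK : ¬ KV G Ω) {a b : Ω} (hab : a ≠ b) {J : G} (hJ : InV a b J) (hJ1 : J ≠ 1) :
    (FV J a b).card < (fx (Ω := Ω) J).card := by
  refine card_lt_card ((FV_subset_fx (inJ_self hJ)).ssubset_of_ne fun e => ?_)
  exact hK (D.kv_of_eq hab hJ hJ1 e.symm)

theorem kv_card (hK : KV G Ω) {a b : Ω} (hab : a ≠ b) {J : G} (hJ : InV a b J) (hJ1 : J ≠ 1) :
    (fx (Ω := Ω) J).card = (FV J a b).card := by rw [hK a b hab J hJ hJ1]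

theorem inter_fx_eq {a b : Ω} (hab : a ≠ b) {J k : G} (hJ : InV a b J) (hk : InJ J a b k)
    (hJ1 : J ≠ 1) (hk1 : k ≠ 1) (hne : k ≠ J) : fx (Ω := Ω) J ∩ fx k = FV J a b :=
  (D.FV_eq_inter hab hJ hJ1 hk hk1 hne).symm

theorem normV_trans {a b : Ω} (hab : a ≠ b) {J : G} (hJ : InV a b J) (hJ1 : J ≠ 1) {c d : Ω}
    (hc : c ∈ FV J a b) (hd : d ∈ FV J a b) (hcd : c ≠ d) :
    ∃ g ∈ normV J a b, g • a = c ∧ g • b = d := by
  obtain ⟨g, hg, rfl, rfl⟩ := D.cent_trans (isT_of_inV hab hJ hJ1) (mem_fx.2 hJ.1) (mem_fx.2 hJ.2.1)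
    (FV_subset_fx (inJ_self hJ) hc) (FV_subset_fx (inJ_self hJ) hd) hab hcd
  refine ⟨g, ⟨Subgroup.mem_centralizer_singleton_iff.2 hg, fun x => ?_⟩, rfl, rfl⟩
  rw [← D.FV_eq_of_mem hab hJ hJ1 hc hd hcd, mem_FV_cent hg, D.FV_eq_of_mem hab hJ hJ1 hc hd hcd]

theorem normV_two_point {a b : Ω} (hab : a ≠ b) {J : G} (hJ : InV a b J) (hJ1 : J ≠ 1) {c d : Ω}
    (hc : c ∈ FV J a b) (hd : d ∈ FV J a b) (hcd : c ≠ d) {g : G} :
    (g ∈ normV J a b ∧ g • c = c ∧ g • d = d) ↔ InJ J a b g := by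
  constructor
  · rintro ⟨hg, h1, h2⟩
    exact (D.inJ_iff_of_mem hab hJ hJ1 hc hd hcd).1 (D.inJ_of_commute hcd (D.inV_of_mem hJ hc hd) hJ1 h1 h2
      (Subgroup.mem_centralizer_singleton_iff.1 hg.1).symm)
  · intro hg
    exact ⟨mem_normV_of_maps hg.2 fun x hx => by rw [mem_FV.1 hx g hg]; exact hx,
      mem_FV.1 hc g hg, mem_FV.1 hd g hg⟩

theorem card_normV {a b : Ω} (hab : a ≠ b) {J : G} (hJ : InV a b J) (hJ1 : J ≠ 1) :
    Nat.card (normV J a b) = 4 * ((FV J a b).card * ((FV J a b).card - 1)) := by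
  rw [card_subgroup_pairs (normV J a b) (FV J a b) (left_mem_FV J a b) (right_mem_FV J a b) hab
    (fun g hg x hx => (hg.2 x).2 hx) (fun c hc d hd hcd => D.normV_trans hab hJ hJ1 hc hd hcd),
    mul_comm]
  congr 1
  rw [← D.card_inJ hab hJ hJ1, ← Fintype.card_subtype, ← Nat.card_eq_fintype_card]
  exact Nat.card_congr (Equiv.subtypeEquivRight fun g =>
    D.normV_two_point hab hJ hJ1 (left_mem_FV J a b) (right_mem_FV J a b) hab)

/-- The number of fixed points of a four-group is a prime power. -/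
theorem isPrimePow_card_FV {a b : Ω} (hab : a ≠ b) {J : G} (hJ : InV a b J) (hJ1 : J ≠ 1) :
    IsPrimePow (FV J a b).card := by
  set Φ := FV J a b
  let f := actHom (normV J a b) Φ inf_le_right
  haveI : IsMultiplyPretransitive f.range {x // x ∈ Φ} 2 := by
    rw [is_two_pretransitive_iff]
    intro p q r s hpq hrs
    have key : ∀ c d : {x // x ∈ Φ}, c ≠ d → ∃ g : normV J a b, (g : G) • a = c ∧ (g : G) • b = d :=
      fun c d h => by
        obtain ⟨g, hg, h'⟩ := D.normV_trans hab hJ hJ1 c.2 d.2 (fun e => h (Subtype.ext e))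
        exact ⟨⟨g, hg⟩, h'⟩
    obtain ⟨g, hga, hgb⟩ := key p q hpq
    obtain ⟨k, hka, hkb⟩ := key r s hrs
    refine ⟨⟨f (k * g⁻¹), _, rfl⟩, Subtype.ext ?_, Subtype.ext ?_⟩
    · show ((k * g⁻¹ : normV J a b) : G) • (p : Ω) = r
      rw [← hga, Subgroup.coe_mul, Subgroup.coe_inv, mul_smul, inv_smul_smul, hka]
    · show ((k * g⁻¹ : normV J a b) : G) • (q : Ω) = s
      rw [← hgb, Subgroup.coe_mul, Subgroup.coe_inv, mul_smul, inv_smul_smul, hkb]
  have hsharp : ∀ x : Fin 2 ↪ {x // x ∈ Φ}, stabilizer f.range x = ⊥ := by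
    intro x
    refine eq_bot_iff.2 fun p hp => ?_
    obtain ⟨_, g, rfl⟩ := p
    rw [mem_stabilizer_iff] at hp
    have h0 : (g : G) • ((x 0 : {x // x ∈ Φ}) : Ω) = (x 0 : {x // x ∈ Φ}) :=
      congrArg Subtype.val (DFunLike.congr_fun hp 0)
    have h1 : (g : G) • ((x 1 : {x // x ∈ Φ}) : Ω) = (x 1 : {x // x ∈ Φ}) :=
      congrArg Subtype.val (DFunLike.congr_fun hp 1)
    have hne : ((x 0 : {x // x ∈ Φ}) : Ω) ≠ (x 1 : {x // x ∈ Φ}) := fun e => by
      simpa using x.injective (Subtype.ext e)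
    have hv := (D.normV_two_point hab hJ hJ1 (x 0).2 (x 1).2 hne).1 ⟨g.2, h0, h1⟩
    rw [Subgroup.mem_bot]
    exact Subtype.ext (actHom_eq_one.2 fun y hy => mem_FV.1 hy _ hv)
  have hn : 2 ≤ Nat.card {x // x ∈ Φ} := by
    rw [Nat.card_eq_fintype_card, Fintype.card_coe]; exact D.two_le_card_FV hab J
  obtain ⟨p, j, K, hp, hj, hα, -⟩ := CfsgLib.SharplyTwo.exists_kernel hsharp hn
  rw [Nat.card_eq_fintype_card, Fintype.card_coe] at hα
  exact ⟨p, j, hp.prime, hj, hα.symm⟩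

theorem normV_inJ_conj {a b : Ω} (hab : a ≠ b) {J g w : G} (hJ : InV a b J) (hJ1 : J ≠ 1)
    (hg : g ∈ normV J a b) (hw : InJ J a b w) : InJ J a b (g * w * g⁻¹) := by
  have h := hw.conj g
  rw [Subgroup.mem_centralizer_singleton_iff.1 hg.1, mul_inv_cancel_right] at h
  exact (D.inJ_iff_of_mem hab hJ hJ1 ((hg.2 a).2 (left_mem_FV J a b)) ((hg.2 b).2 (right_mem_FV J a b))
    (fun e => hab (smul_left_cancel g e))).1 h

theorem normV_cases {a b : Ω} (hab : a ≠ b) {J v : G} (hJ : InV a b J) (hJ1 : J ≠ 1) (hv : InJ J a b v)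
    (hv1 : v ≠ 1) (hvJ : v ≠ J) {g : G} (hg : g ∈ normV J a b) :
    g * v * g⁻¹ = v ∨ g * v * g⁻¹ = v * J := by
  have hgJ := Subgroup.mem_centralizer_singleton_iff.1 hg.1
  rcases D.inJ_cases hab hJ hJ1 hv hv1 hvJ (D.normV_inJ_conj hab hJ hJ1 hg hv) with h | h | h | h
  · exact absurd (conj_eq_one_iff.1 h) hv1
  · refine absurd ?_ hvJ
    have : g * v * g⁻¹ = g * J * g⁻¹ := by rw [h, hgJ, mul_inv_cancel_right]
    exact mul_left_cancel (mul_right_cancel this)
  · exact Or.inl h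
  · exact Or.inr h

/-- In the symmetric type the number of fixed points of a four-group is `2` or `3` modulo `4`. -/
theorem sym_parity (hS : SymType G Ω) {a b : Ω} (hab : a ≠ b) {J : G} (hJ : InV a b J) (hJ1 : J ≠ 1) :
    ∃ m, Odd m ∧ (FV J a b).card * ((FV J a b).card - 1) = 2 * m := by
  haveI : Fact (Nat.Prime 2) := ⟨Nat.prime_two⟩
  obtain ⟨v, hv, hv1, hvJ⟩ := D.exists_second hab hJ hJ1
  obtain ⟨u, hu, huu, huJ, huV⟩ := D.sym_exists hS hab hJ hJ1
  set N := normV J a b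
  set Φ := FV J a b
  let f := actHom N Φ inf_le_right
  have huN : u ∈ N := by
    refine mem_normV_of_maps huJ fun x hx => ?_
    have h := (mem_FV_cent (a := a) (b := b) huJ).2 hx
    rwa [hu.1, hu.2, FV_comm] at h
  have hVN : ∀ g : G, InJ J a b g → g ∈ N := fun g hg =>
    ((D.normV_two_point hab hJ hJ1 (left_mem_FV J a b) (right_mem_FV J a b) hab).2 hg).1
  let Dc : Subgroup N := (Subgroup.centralizer ({v} : Set G)).subgroupOf N
  have hmemD : ∀ g : N, g ∈ Dc ↔ (g : G) * v = v * g := fun g => by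
    simp [Dc, Subgroup.mem_subgroupOf, Subgroup.mem_centralizer_singleton_iff]
  have hidx : Dc.index = 2 := by
    rw [Subgroup.index_eq_two_iff]
    refine ⟨⟨u, huN⟩, fun g => ?_⟩
    simp only [hmemD, Subgroup.coe_mul]
    have hne : v * J ≠ v := fun e => hJ1 (mul_eq_left.1 e)
    have hui : u⁻¹ = u := inv_eq_of_mul_eq_one_right huu
    have hu1 : u * v * u = v * J := huV v hv hv1 hvJ
    rcases D.normV_cases hab hJ hJ1 hv hv1 hvJ g.2 with e | e
    · refine Or.inr ⟨mul_inv_eq_iff_eq_mul.1 e, fun h => ?_⟩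
      have h' : (g : G) * (u * v * u) * (g : G)⁻¹ = v := by
        calc (g : G) * (u * v * u) * (g : G)⁻¹ = (g : G) * u * v * (u⁻¹ * (g : G)⁻¹) := by
              rw [hui]; group
          _ = v := by rw [h]; group
      rw [hu1] at h'
      exact hne (mul_left_cancel (mul_right_cancel (h'.trans e.symm)))
    · refine Or.inl ⟨?_, fun h => hne (by rw [← e, h, mul_inv_cancel_right])⟩
      refine mul_inv_eq_iff_eq_mul.1 ?_
      have hgJ := Subgroup.mem_centralizer_singleton_iff.1 g.2.1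
      calc (g : G) * u * v * ((g : G) * u)⁻¹ = (g : G) * (u * v * u⁻¹) * (g : G)⁻¹ := by group
        _ = (g : G) * v * (g : G)⁻¹ * ((g : G) * J * (g : G)⁻¹) := by rw [hui, hu1]; group
        _ = v * J * J := by rw [e, hgJ, mul_inv_cancel_right]
        _ = v := by rw [mul_assoc, hJ.2.2, mul_one]
  have hcardD : 2 * Nat.card Dc = Nat.card N := by rw [← hidx, mul_comm, Subgroup.card_mul_index]
  let fD : Dc →* Equiv.Perm {x // x ∈ Φ} := f.comp Dc.subtype
  have hker : Nat.card fD.ker = 4 := by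
    rw [← D.card_inJ hab hJ hJ1, ← Fintype.card_subtype, ← Nat.card_eq_fintype_card]
    refine Nat.card_congr
      { toFun := fun g => ⟨((g : Dc) : N), ?_⟩
        invFun := fun g => ⟨⟨⟨g, hVN g g.2⟩, (hmemD _).2 (D.inJ_mul hab hJ hJ1 g.2 hv).1⟩, ?_⟩
        left_inv := fun g => rfl
        right_inv := fun g => rfl }
    · have hg1 : f ((g : Dc) : N) = 1 := MonoidHom.mem_ker.1 g.2
      have h := actHom_eq_one.1 hg1
      exact (D.normV_two_point hab hJ hJ1 (left_mem_FV J a b) (right_mem_FV J a b) hab).1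
        ⟨((g : Dc) : N).2, h a (left_mem_FV J a b), h b (right_mem_FV J a b)⟩
    · refine MonoidHom.mem_ker.2 ?_
      show f _ = 1
      exact actHom_eq_one.2 fun x hx => mem_FV.1 hx _ g.2
  refine ⟨Nat.card fD.range, Nat.not_even_iff_odd.1 fun hev => ?_, ?_⟩
  · obtain ⟨⟨π, ⟨g, hg⟩⟩, hπ⟩ := exists_prime_orderOf_dvd_card' (G := fD.range) 2 (even_iff_two_dvd.1 hev)
    rw [← Subgroup.orderOf_coe] at hπ
    obtain ⟨c, hc⟩ : ∃ c, π c ≠ c := by
      by_contra h
      push Not at h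
      obtain rfl : π = 1 := Equiv.ext h
      simp at hπ
    have hsq : π * π = 1 := by rw [← sq, ← hπ, pow_orderOf_eq_one]
    have hswap : Swap (c : Ω) (π c : Ω) ((g : N) : G) := by
      subst hg
      refine ⟨rfl, ?_⟩
      exact congrArg Subtype.val (Equiv.ext_iff.1 hsq c)
    have hne : (c : Ω) ≠ (π c : Ω) := fun e => hc (Subtype.ext e.symm)
    have hJc : InV (c : Ω) (π c : Ω) J := D.inV_of_mem hJ c.2 (π c).2
    have hgJ := Subgroup.mem_centralizer_singleton_iff.1 (g : N).2.1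
    have hgv := (hmemD _).1 g.2
    have hvc : InJ J (c : Ω) (π c : Ω) v := (D.inJ_iff_of_mem hab hJ hJ1 c.2 (π c).2 hne).2 hv
    obtain ⟨u', hu', hu'u, hu'J, hu'V⟩ := D.sym_exists hS hne hJc hJ1
    set w := u'⁻¹ * ((g : N) : G) with hw
    have hwV : InJ J (c : Ω) (π c : Ω) w := D.swap_cent_coset hne hJc hJ1 hu' hu'J hswap hgJ
    have hwv := (D.inJ_mul hne hJc hJ1 hwV hvc).1
    refine hJ1 (mul_eq_left.1 (?_ : v * J = v))
    calc v * J = u' * v * u'⁻¹ := by rw [inv_eq_of_mul_eq_one_right hu'u, hu'V v hvc hv1 hvJ]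
      _ = u' * (w * v * w⁻¹) * u'⁻¹ := by rw [hwv, mul_inv_cancel_right]
      _ = ((g : N) : G) * v * ((g : N) : G)⁻¹ := by rw [hw]; group
      _ = v := by rw [hgv, mul_inv_cancel_right]
  · have h1 := fD.ker.card_mul_index
    rw [Subgroup.index_ker, hker] at h1
    have h2 := D.card_normV hab hJ hJ1
    rw [← hcardD, ← h1] at h2
    linarith

end Hyp

end CfsgLib.TwoPointA5
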