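import Cfsg.Agent.Blocks.KleinPsl

/-!
# The possible values of the structure constant of a Klein four Sylow subgroup
-/

set_option autoImplicit false
set_option linter.unusedSectionVars false
set_option linter.style.haveILetI false

namespace CfsgLib.TwoPointA5

open Cfsg Finset CfsgLib.Block CfsgLib.Block.Chr CfsgLib.Char

universe u

/-- The possible values of the ratio of `A` and `B` where `A S = 8 B`. -/
def KleinCases (A B : ℕ) : Prop :=
  A = 3 * B ∨ (∃ x : ℕ, 5 ≤ x ∧ A * (x + 1) ^ 2 = 4 * B * (x * (2 * x + 1))) ∨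
    ∃ X y w : ℕ, 3 ≤ y ∧ y ≤ w ∧ y % 4 = 3 ∧ w % 4 = 3 ∧ X + 1 = y + w ∧
      A * (X * (y * w) + y * w) = 8 * B * (X * (y * w)) + A * (X * (y + w))

theorem KleinCases.of_mul {k A B : ℕ} (hk : 0 < k) (h : KleinCases (k * A) (k * B)) : KleinCases A B := by
  rcases h with h | ⟨x, hx, h⟩ | ⟨X, y, w, h1, h2, h3, h4, h5, h⟩
  · exact Or.inl (Nat.eq_of_mul_eq_mul_left hk (by rw [h]; ring))
  · refine Or.inr (Or.inl ⟨x, hx, Nat.eq_of_mul_eq_mul_left hk ?_⟩)
    linear_combination h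
  · refine Or.inr (Or.inr ⟨X, y, w, h1, h2, h3, h4, h5, Nat.eq_of_mul_eq_mul_left hk ?_⟩)
    linear_combination h

/-- The structure constant of a Klein four Sylow subgroup. -/
theorem klein_trichotomy {Y : Type u} [Group Y] [Finite Y] (P : Sylow 2 Y)
    (hP : IsKleinFour (P : Subgroup Y)) (hone : ∀ s t : Y, orderOf s = 2 → orderOf t = 2 → IsConj s t)
    {J : Y} (hJP : J ∈ (P : Subgroup Y)) (hJ : orderOf J = 2) :
    KleinCases (Nat.card Y * Nat.card (Subgroup.centralizer ((P : Subgroup Y) : Set Y)) ^ 2)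
      (Nat.card (Subgroup.centralizer ({J} : Set Y)) ^ 3) := by
  classical
  haveI : Fact (Nat.Prime 2) := ⟨Nat.prime_two⟩
  haveI := Fintype.ofFinite Y
  letI := irrFintype (G := Y)
  obtain ⟨M, hM⟩ := exists_isPModular Nat.prime_two
  haveI := hM.2.1.isPrime
  haveI := hP
  have hcard : Nat.card P = 4 := IsKleinFour.card_four
  have hexp : ∀ x : P, x * x = 1 := fun x => IsKleinFour.mul_self x
  obtain ⟨h4, v, hv1, hv, hrel⟩ := klein_principal hM P hcard hexp hone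
  have hform := klein_order_formula hM P hP hone hJP hJ
  set g := Nat.card Y
  set c := Nat.card (Subgroup.centralizer ({J} : Set Y)) with hc
  set d := Nat.card (Subgroup.centralizer ((P : Subgroup Y) : Set Y)) with hd
  have hc0 : (0 : ℝ) < c := Nat.cast_pos.2 Nat.card_pos
  have hd0 : (d : ℂ) ≠ 0 := Nat.cast_ne_zero.2 Nat.card_pos.ne'
  set B := univ.filter (· ∈ principalBlock M Y)
  have h1B : oneIrr Y ∈ B := mem_filter.2 ⟨mem_univ _, oneIrr_mem_principalBlock⟩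
  obtain ⟨χ₁, χ₂, χ₃, n12, n13, n23, hT⟩ := card_eq_three.1
    (show (B.erase (oneIrr Y)).card = 3 by rw [card_erase_of_mem h1B, h4])
  have hmemT : ∀ χ, χ = χ₁ ∨ χ = χ₂ ∨ χ = χ₃ → χ ≠ oneIrr Y ∧ χ ∈ principalBlock M Y := by
    intro χ hχ
    have h : χ ∈ B.erase (oneIrr Y) := by rw [hT]; simpa using hχ
    exact ⟨(mem_erase.1 h).1, (mem_filter.1 (mem_erase.1 h).2).2⟩
  have hB : ∀ χ, χ ∈ principalBlock M Y ↔ χ = oneIrr Y ∨ χ = χ₁ ∨ χ = χ₂ ∨ χ = χ₃ := by
    intro χ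
    refine ⟨fun h => ?_, ?_⟩
    · by_cases h1 : χ = oneIrr Y
      · exact Or.inl h1
      · have : χ ∈ B.erase (oneIrr Y) := mem_erase.2 ⟨h1, mem_filter.2 ⟨mem_univ _, h⟩⟩
        rw [hT] at this
        exact Or.inr (by simpa using this)
    · rintro (rfl | h)
      exacts [oneIrr_mem_principalBlock, (hmemT χ h).2]
  obtain ⟨d1, m1⟩ := hmemT χ₁ (Or.inl rfl)
  obtain ⟨d2, m2⟩ := hmemT χ₂ (Or.inr (Or.inl rfl))
  obtain ⟨d3, m3⟩ := hmemT χ₃ (Or.inr (Or.inr rfl))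
  have hconj : ∀ {a b t : IrrCharacter Y},
      (∀ χ, χ ∈ principalBlock M Y ↔ χ = oneIrr Y ∨ χ = a ∨ χ = b ∨ χ = t) →
      (oneIrr Y ≠ a ∧ oneIrr Y ≠ b ∧ oneIrr Y ≠ t ∧ a ≠ b ∧ a ≠ t ∧ b ≠ t) →
      a ∈ principalBlock M Y → b ∈ principalBlock M Y → t ∈ principalBlock M Y →
      v a = 1 → v b = 1 → v t = -1 → charDegree (a : Y → ℂ) = charDegree (b : Y → ℂ) := by
    intro a b t hB' hne ha hb ht va vb vt
    refine klein_conjugate_pair hM P hcard hexp hone hJP hJ hB' hne ?_ ?_ ?_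
    · rw [(hv a ha).1 J hJ, va, Int.cast_one]
    · rw [(hv b hb).1 J hJ, vb, Int.cast_one]
    · rw [(hv t ht).1 J hJ, vt]; norm_num
  set x₁ := charDegree (χ₁ : Y → ℂ) with hx₁
  set x₂ := charDegree (χ₂ : Y → ℂ) with hx₂
  set x₃ := charDegree (χ₃ : Y → ℂ) with hx₃
  set S : ℝ := 1 + (v χ₁ : ℝ) / x₁ + (v χ₂ : ℝ) / x₂ + (v χ₃ : ℝ) / x₃ with hS
  have hsum : ∀ f : IrrCharacter Y → ℂ,
      ∑ χ ∈ B, f χ = f (oneIrr Y) + f χ₁ + f χ₂ + f χ₃ := by
    intro f
    rw [← add_sum_erase B f h1B, hT, sum_insert (by simp [n12, n13]), sum_insert (by simp [n23]),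
      sum_singleton]
    ring
  -- the degree relation
  have hdeg : (1 : ℤ) + v χ₁ * x₁ + v χ₂ * x₂ + v χ₃ * x₃ = 0 := by
    have h := hrel 1 (by simp)
    rw [hsum, hv1, oneIrr_coe, (irr_one χ₁).1, (irr_one χ₂).1, (irr_one χ₃).1] at h
    exact_mod_cast (by push_cast at h ⊢; linear_combination h :
      (((1 : ℤ) + v χ₁ * x₁ + v χ₂ * x₂ + v χ₃ * x₃ : ℤ) : ℂ) = ((0 : ℤ) : ℂ))
  -- the formula
  have key : (g : ℝ) * (d : ℝ) ^ 2 * S = 8 * (c : ℝ) ^ 3 := by
    rw [hsum, oneIrr_coe, (hv _ m1).1 J hJ, (hv _ m2).1 J hJ, (hv _ m3).1 J hJ, (irr_one χ₁).1,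
      (irr_one χ₂).1, (irr_one χ₃).1, eq_div_iff (pow_ne_zero 2 hd0), div_one] at hform
    refine Complex.ofReal_injective ?_
    rw [hS]
    push_cast
    linear_combination hform
  -- the cases
  set A := g * d ^ 2 with hA
  set Bn := c ^ 3 with hBn
  have key' : (A : ℝ) * S = 8 * (Bn : ℝ) := by
    rw [hA, hBn]; push_cast; linarith [key]
  obtain ⟨-, s1, ⟨q1, hq1⟩⟩ := hv _ m1
  obtain ⟨-, s2, ⟨q2, hq2⟩⟩ := hv _ m2
  obtain ⟨-, s3, ⟨q3, hq3⟩⟩ := hv _ m3
  have p1 : 0 < x₁ := (irr_one χ₁).2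
  have p2 : 0 < x₂ := (irr_one χ₂).2
  have p3 : 0 < x₃ := (irr_one χ₃).2
  -- one negative sign
  have one_neg : ∀ x y : ℕ, 0 < x → (∃ q : ℤ, (x : ℤ) - 1 = 4 * q) → (y : ℤ) = 1 + x + x →
      (A : ℝ) * ((1 : ℝ) + 1 / x + 1 / x - 1 / y) = 8 * (Bn : ℝ) → KleinCases A Bn := by
    intro x y hx hq hy hk
    obtain ⟨q, hq⟩ := hq
    have hy' : (y : ℝ) = 1 + x + x := by exact_mod_cast hy
    by_cases h1 : x = 1
    · subst h1
      rw [hy'] at hk
      norm_num at hk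
      have h3 : (A : ℝ) = 3 * Bn := by linarith
      exact Or.inl (by exact_mod_cast h3)
    · refine Or.inr (Or.inl ⟨x, by omega, ?_⟩)
      have hx' : (x : ℝ) ≠ 0 := Nat.cast_ne_zero.2 hx.ne'
      have hy0 : (y : ℝ) ≠ 0 := by rw [hy']; positivity
      field_simp at hk
      rw [hy'] at hk
      have h2 : (A : ℝ) * ((x : ℝ) + 1) ^ 2 = 4 * Bn * (x * (2 * x + 1)) := by
        linear_combination hk / 2
      exact_mod_cast h2
  -- two negative signs
  have two_neg : ∀ x y w : ℕ, 0 < x → (x : ℤ) + 1 = y + w → (∃ q : ℤ, (y : ℤ) + 1 = 4 * q) →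
      (∃ q : ℤ, (w : ℤ) + 1 = 4 * q) →
      (A : ℝ) * ((1 : ℝ) + 1 / x - 1 / y - 1 / w) = 8 * (Bn : ℝ) → KleinCases A Bn := by
    intro x y w hx hxy hy hw hk
    obtain ⟨q, hq⟩ := hy
    obtain ⟨r, hr⟩ := hw
    have hx' : (x : ℝ) ≠ 0 := Nat.cast_ne_zero.2 hx.ne'
    have hy0 : (y : ℝ) ≠ 0 := Nat.cast_ne_zero.2 (by omega)
    have hw0 : (w : ℝ) ≠ 0 := Nat.cast_ne_zero.2 (by omega)
    field_simp at hk
    have h2 : (A : ℝ) * (x * (y * w) + y * w) = 8 * Bn * (x * (y * w)) + A * (x * (y + w)) := by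
      linear_combination hk
    have h3 : A * (x * (y * w) + y * w) = 8 * Bn * (x * (y * w)) + A * (x * (y + w)) := by
      exact_mod_cast h2
    rcases le_total y w with hle | hle
    · exact Or.inr (Or.inr ⟨x, y, w, by omega, hle, by omega, by omega, by omega, h3⟩)
    · refine Or.inr (Or.inr ⟨x, w, y, by omega, hle, by omega, by omega, by omega, ?_⟩)
      rw [mul_comm w y, add_comm w y]
      exact h3
  rw [hS] at key'
  rcases s1 with e1 | e1 <;> rcases s2 with e2 | e2 <;> rcases s3 with e3 | e3 <;>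
    rw [e1] at hdeg hq1 key' <;> rw [e2] at hdeg hq2 key' <;> rw [e3] at hdeg hq3 key' <;>
    push_cast at hq1 hq2 hq3 hdeg key'
  · omega
  · have he := hconj hB ⟨d1.symm, d2.symm, d3.symm, n12, n13, n23⟩ m1 m2 m3 e1 e2 e3
    rw [← hx₁, ← hx₂] at he
    rw [← he] at key'
    exact one_neg x₁ x₃ p1 ⟨q1, hq1⟩ (by omega) (by linear_combination key')
  · have he := hconj (t := χ₂) (b := χ₃) (a := χ₁) (fun χ => (hB χ).trans (by tauto))
      ⟨d1.symm, d3.symm, d2.symm, n13, n12, n23.symm⟩ m1 m3 m2 e1 e3 e2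
    rw [← hx₁, ← hx₃] at he
    rw [← he] at key'
    exact one_neg x₁ x₂ p1 ⟨q1, hq1⟩ (by omega) (by linear_combination key')
  · exact two_neg x₁ x₂ x₃ p1 (by omega) ⟨q2, by linarith⟩ ⟨q3, by linarith⟩ (by linear_combination key')
  · have he := hconj (t := χ₁) (b := χ₃) (a := χ₂) (fun χ => (hB χ).trans (by tauto))
      ⟨d2.symm, d3.symm, d1.symm, n23, n12.symm, n13.symm⟩ m2 m3 m1 e2 e3 e1
    rw [← hx₂, ← hx₃] at he
    rw [← he] at key'
    exact one_neg x₂ x₁ p2 ⟨q2, hq2⟩ (by omega) (by linear_combination key')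
  · exact two_neg x₂ x₁ x₃ p2 (by omega) ⟨q1, by linarith⟩ ⟨q3, by linarith⟩ (by linear_combination key')
  · exact two_neg x₃ x₁ x₂ p3 (by omega) ⟨q1, by linarith⟩ ⟨q2, by linarith⟩ (by linear_combination key')
  · omega

/-! ### Ranges -/

namespace KleinCases

variable {A B : ℕ}

/-- The three cases with the bounds on the ratio. -/
theorem bounds (h : KleinCases A B) (hB : 0 < B) :
    A = 3 * B ∨ (∃ x : ℕ, 5 ≤ x ∧ A * (x + 1) ^ 2 = 4 * B * (x * (2 * x + 1)) ∧ A < 8 * B) ∨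
      A = 15 * B ∨ (∃ w : ℕ, 7 ≤ w ∧ w % 4 = 3 ∧ 12 * B < A ∧ 5 * A ≤ 63 * B ∧
        A * (2 * (w * (w + 2))) = 24 * B * (w * (w + 2)) + 6 * A) ∨
      ∃ y w : ℕ, 7 ≤ y ∧ y ≤ w ∧ y % 4 = 3 ∧ w % 4 = 3 ∧ 8 * B < A ∧ 7 * A ≤ 71 * B ∧
        (A : ℤ) * y * (w * (w + y - 1)) - 8 * B * y * (w * (w + y - 1)) =
          A * (w * (w + y - 1)) + A * y * (y - 1) := by
  rcases h with h | ⟨x, hx, h⟩ | ⟨X, y, w, hy, hyw, hy4, hw4, hX, h⟩
  · exact Or.inl h
  · refine Or.inr (Or.inl ⟨x, hx, h, ?_⟩)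
    by_contra hc
    push Not at hc
    nlinarith [Nat.mul_le_mul_right ((x + 1) ^ 2) hc, Nat.mul_pos hB (show 0 < x by omega)]
  have hX' : (X : ℤ) = y + w - 1 := by omega
  have hz : (A : ℤ) * y * (w * (w + y - 1)) - 8 * B * y * (w * (w + y - 1)) =
      A * (w * (w + y - 1)) + A * y * (y - 1) := by
    have h' : (A : ℤ) * (X * (y * w) + y * w) = 8 * B * (X * (y * w)) + A * (X * (y + w)) := by
      exact_mod_cast h
    rw [hX'] at h'
    linear_combination h'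
  rcases (by omega : y = 3 ∨ 7 ≤ y) with rfl | hy7
  · obtain rfl | hw7 : w = 3 ∨ 7 ≤ w := by omega
    · push_cast at hz
      exact Or.inr (Or.inr (Or.inl (by omega)))
    · refine Or.inr (Or.inr (Or.inr (Or.inl ⟨w, hw7, hw4, ?_⟩)))
      have he : A * (2 * (w * (w + 2))) = 24 * B * (w * (w + 2)) + 6 * A := by
        have hz' : (A : ℤ) * (2 * (w * (w + 2))) = 24 * B * (w * (w + 2)) + 6 * A := by
          push_cast at hz
          linear_combination hz
        exact_mod_cast hz'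
      have h63 : 63 ≤ w * (w + 2) := by nlinarith
      have hA : 0 < A := Nat.pos_of_ne_zero fun h0 => by
        rw [h0] at he
        nlinarith [Nat.mul_pos hB (show 0 < w * (w + 2) by omega)]
      generalize w * (w + 2) = m at he h63
      refine ⟨?_, ?_, he⟩
      · by_contra hc
        push Not at hc
        nlinarith [Nat.mul_le_mul_right m hc]
      · by_contra hc
        push Not at hc
        nlinarith [Nat.mul_le_mul_right m hc, Nat.mul_le_mul_left A h63]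
  · refine Or.inr (Or.inr (Or.inr (Or.inr ⟨y, w, hy7, hyw, hy4, hw4, ?_⟩)))
    have hA : (0 : ℤ) < A := by
      rcases Nat.eq_zero_or_pos A with h0 | h0
      · rw [h0, Nat.zero_mul, Nat.zero_mul, add_zero] at h
        nlinarith [Nat.mul_pos (Nat.mul_pos hB (show 0 < X by omega)) (Nat.mul_pos (show 0 < y by omega) (show 0 < w by omega))]
      · exact_mod_cast h0
    have h1 : (7 : ℤ) ≤ y := by exact_mod_cast hy7
    have h2 : (y : ℤ) ≤ w := by exact_mod_cast hyw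
    have hpos : (0 : ℤ) < w * (w + y - 1) := by nlinarith
    refine ⟨?_, ?_, hz⟩
    · by_contra hc
      push Not at hc
      have hc' : (A : ℤ) ≤ 8 * B := by exact_mod_cast hc
      nlinarith [mul_le_mul_of_nonneg_right hc' (show (0 : ℤ) ≤ y * (w * (w + y - 1)) by positivity),
        mul_pos hA hpos, mul_nonneg hA.le (mul_nonneg (show (0 : ℤ) ≤ y by linarith) (show (0 : ℤ) ≤ y - 1 by linarith))]
    · have hyy : (0 : ℤ) ≤ y * (y - 1) := by nlinarith
      have hk2 : 2 * ((y : ℤ) * (y - 1)) ≤ w * (w + y - 1) := by nlinarith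
      have hk3 : 71 * ((w : ℤ) * (w + y - 1)) + 71 * (y * (y - 1)) ≤ 15 * y * (w * (w + y - 1)) := by
        rcases (by omega : y = 7 ∨ 8 ≤ y) with rfl | h8
        · push_cast at h2 ⊢
          nlinarith
        · have h8' : (8 : ℤ) ≤ y := by exact_mod_cast h8
          nlinarith [mul_le_mul_of_nonneg_right h8' hpos.le]
      by_contra hc
      push Not at hc
      have hc' : (71 : ℤ) * B < 7 * A := by exact_mod_cast hc
      nlinarith [mul_lt_mul_of_pos_right hc' (mul_pos (show (0 : ℤ) < y by linarith) hpos),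
        mul_le_mul_of_nonneg_left hk3 hA.le]

end KleinCases

end CfsgLib.TwoPointA5
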