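import Cfsg.Agent.TwoPointA5.Basic
import Cfsg.Agent.S2119

/-!
# The elements exchanging two points
-/

set_option autoImplicit false
set_option linter.unusedSectionVars false

namespace CfsgLib.TwoPointA5

open MulAction Finset CfsgLib.TwoPointA4
open scoped Classical

universe u v

variable {G : Type u} {Ω : Type v} [Group G] [MulAction G Ω] [Fintype Ω] [Fintype G]

/-- No involution exchanging two points centralizes their stabilizer. -/
def SymType (G : Type u) (Ω : Type v) [Group G] [MulAction G Ω] : Prop :=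
  ∀ a b : Ω, a ≠ b → ∀ z : G, Swap a b z → ¬ ∀ h : G, h • a = a → h • b = b → z * h = h * z

theorem InJ.swap_conj {a b : Ω} {J g v : G} (hv : InJ J a b v) (hg : Swap a b g) (hgJ : g * J = J * g) :
    InJ J a b (g * v * g⁻¹) := by
  have := hv.conj g
  rw [hg.1, hg.2, hgJ, mul_inv_cancel_right] at this
  exact inJ_comm'.1 this

namespace Hyp

variable (D : Hyp G Ω)
include D

theorem exists_swap {a b : Ω} (hab : a ≠ b) : ∃ s : G, Swap a b s :=
  D.trans a b b a hab hab.symm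

/-- The four elements of the four-group. -/
theorem inJ_cases {a b : Ω} (hab : a ≠ b) {J v : G} (hJ : InV a b J) (hJ1 : J ≠ 1)
    (hv : InJ J a b v) (hv1 : v ≠ 1) (hvJ : v ≠ J) {w : G} (hw : InJ J a b w) :
    w = 1 ∨ w = J ∨ w = v ∨ w = v * J := by
  by_contra h
  push Not at h
  obtain ⟨h1, h2, h3, h4⟩ := h
  have hvJ' := (D.inJ_mul hab hJ hJ1 hv (inJ_self hJ)).2
  have e1 : v * J ≠ 1 := fun e => hvJ (mul_right_cancel (e.trans hJ.2.2.symm))
  have e2 : v * J ≠ J := fun e => hv1 (mul_eq_right.1 e)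
  have e3 : v * J ≠ v := fun e => hJ1 (mul_eq_left.1 e)
  have : ({1, J, v, v * J, w} : Finset G) ⊆ univ.filter fun g : G => InJ J a b g := by
    intro g hg
    simp only [mem_insert, mem_singleton] at hg
    rcases hg with rfl | rfl | rfl | rfl | rfl
    exacts [mem_filter.2 ⟨mem_univ _, inJ_one _ a b⟩, mem_filter.2 ⟨mem_univ _, inJ_self hJ⟩,
      mem_filter.2 ⟨mem_univ _, hv⟩, mem_filter.2 ⟨mem_univ _, hvJ'⟩, mem_filter.2 ⟨mem_univ _, hw⟩]
  have hc := card_le_card this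
  rw [D.card_inJ hab hJ hJ1, card_insert_of_notMem (by simp [hJ1.symm, hv1.symm, e1.symm, h1.symm]),
    card_insert_of_notMem (by simp [hvJ.symm, e2.symm, h2.symm]),
    card_insert_of_notMem (by simp [e3.symm, h3.symm]),
    card_insert_of_notMem (by simp [h4.symm]), card_singleton] at hc
  omega

theorem central_sq_one {a b : Ω} (hab : a ≠ b) {z : G} (hz : Swap a b z)
    (hc : ∀ h : G, h • a = a → h • b = b → z * h = h * z) : z * z = 1 :=
  D.two_point_center hab hz.sq_fix.1 hz.sq_fix.2 fun h h1 h2 =>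
    ((show Commute z h from hc h h1 h2).mul_left (hc h h1 h2)).eq

theorem dichotomy : Central G Ω ∨ SymType G Ω := by
  by_cases h : SymType G Ω
  · exact Or.inr h
  left
  unfold SymType at h
  push Not at h
  obtain ⟨a, b, hab, z, hz, hzc⟩ := h
  have hzz := D.central_sq_one hab hz hzc
  intro c d hcd
  obtain ⟨g, rfl, rfl⟩ := D.trans a b c d hab hcd
  refine ⟨g * z * g⁻¹, hz.conj g, by rw [conj_mul, hzz]; group, fun h h1 h2 => ?_⟩
  have := hzc (g⁻¹ * h * g) (by rw [mul_smul, mul_smul, h1, inv_smul_smul])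
    (by rw [mul_smul, mul_smul, h2, inv_smul_smul])
  calc g * z * g⁻¹ * h = g * (z * (g⁻¹ * h * g)) * g⁻¹ := by group
    _ = h * (g * z * g⁻¹) := by rw [this]; group

/-- The elements exchanging `a` and `b` in the centralizer of an involution fixing both form a
coset of the four-group. -/
theorem swap_cent_coset {a b : Ω} (hab : a ≠ b) {J : G} (hJ : InV a b J) (hJ1 : J ≠ 1) {s g : G}
    (hs : Swap a b s) (hsJ : s * J = J * s) (hg : Swap a b g) (hgJ : g * J = J * g) :
    InJ J a b (s⁻¹ * g) :=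
  D.inJ_of_commute hab hJ hJ1 (hs.inv_mul hg).1 (hs.inv_mul hg).2
    ((Commute.inv_right hsJ.symm).mul_right hgJ.symm).eq

/-! ### The central type -/

omit D in
theorem _root_.CfsgLib.TwoPointA5.central_invol {a b : Ω} {z : G} (hz : Swap a b z) (hzz : z * z = 1)
    (hc : ∀ h : G, h • a = a → h • b = b → z * h = h * z) {g : G} (hg : Swap a b g) :
    (g * g = 1 ↔ InV a b (z * g)) := by
  have hfix : (z * g) • a = a ∧ (z * g) • b = b := by
    have := hz.inv_mul hg
    rwa [inv_eq_of_mul_eq_one_right hzz] at this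
  have hzg : z * g * z = g := by
    rw [← hc _ hfix.1 hfix.2, ← mul_assoc, hzz, one_mul]
  have key : z * g * (z * g) = g * g := by rw [← mul_assoc, hzg]
  exact ⟨fun h => ⟨hfix.1, hfix.2, key.trans h⟩, fun h => key.symm.trans h.2.2⟩

theorem central_swap_cent {a b : Ω} (hab : a ≠ b) {z : G} (hz : Swap a b z) (hzz : z * z = 1)
    (hc : ∀ h : G, h • a = a → h • b = b → z * h = h * z) {J : G} (hJ : InV a b J) (hJ1 : J ≠ 1)
    {g : G} (hg : Swap a b g) (hgJ : g * J = J * g) : InJ J a b (z * g) := by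
  have := D.swap_cent_coset hab hJ hJ1 hz (hc J hJ.1 hJ.2.1) hg hgJ
  rwa [inv_eq_of_mul_eq_one_right hzz] at this

/-! ### The symmetric type -/

/-- The permutation induced by an element exchanging two points on their stabilizer. -/
theorem swap_perm (hS : SymType G Ω) {a b : Ω} (hab : a ≠ b)
    (e : ↥(stabilizer G a ⊓ stabilizer G b) ≃* ↥A5) {s : G} (hs : Swap a b s) :
    ∃ π : Equiv.Perm (Fin 5), Equiv.Perm.sign π = -1 ∧
      ∀ (h k : ↥(stabilizer G a ⊓ stabilizer G b)), (k : G) = s * h * s⁻¹ →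
        (e k : Equiv.Perm (Fin 5)) = π * e h * π⁻¹ := by
  have hs1 : s⁻¹ • a = b := inv_smul_eq_iff.2 hs.2.symm
  have hs2 : s⁻¹ • b = a := inv_smul_eq_iff.2 hs.1.symm
  have hmem : ∀ h : (stabilizer G a ⊓ stabilizer G b : Subgroup G), s * h * s⁻¹ ∈ (stabilizer G a ⊓ stabilizer G b : Subgroup G) ∧ s⁻¹ * h * s ∈ (stabilizer G a ⊓ stabilizer G b : Subgroup G) := fun h => by
    have e1 : (h : G) • a = a := h.2.1
    have e2 : (h : G) • b = b := h.2.2
    refine ⟨⟨?_, ?_⟩, ⟨?_, ?_⟩⟩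
    · show (s * h * s⁻¹) • a = a
      rw [mul_smul, mul_smul, hs1, e2, hs.2]
    · show (s * h * s⁻¹) • b = b
      rw [mul_smul, mul_smul, hs2, e1, hs.1]
    · show (s⁻¹ * h * s) • a = a
      rw [mul_smul, mul_smul, hs.1, e2, hs2]
    · show (s⁻¹ * h * s) • b = b
      rw [mul_smul, mul_smul, hs.2, e1, hs1]
  let φ : MulAut (stabilizer G a ⊓ stabilizer G b : Subgroup G) :=
    { toFun := fun h => ⟨s * h * s⁻¹, (hmem h).1⟩
      invFun := fun h => ⟨s⁻¹ * h * s, (hmem h).2⟩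
      left_inv := fun h => Subtype.ext (by simp [mul_assoc])
      right_inv := fun h => Subtype.ext (by simp [mul_assoc])
      map_mul' := fun g h => Subtype.ext (by simp [mul_assoc]) }
  obtain ⟨π, hπ⟩ := (Cfsg.Agent.S2119.result 5 (by norm_num) (by norm_num)).2 (e.symm.trans (φ.trans e))
  have hval : ∀ h k : (stabilizer G a ⊓ stabilizer G b : Subgroup G), (k : G) = s * h * s⁻¹ → (e k : Equiv.Perm (Fin 5)) = π * e h * π⁻¹ := by
    intro h k hk
    have h1 := congrArg Subtype.val (DFunLike.congr_fun hπ (e h))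
    rw [MulAut.conjNormal_apply] at h1
    rw [h1]
    simp only [MulEquiv.trans_apply, MulEquiv.symm_apply_apply]
    congr 2
    exact Subtype.ext hk
  refine ⟨π, ?_, hval⟩
  rcases Int.units_eq_one_or (Equiv.Perm.sign π) with h | h
  swap
  · exact h
  exfalso
  let g : (stabilizer G a ⊓ stabilizer G b : Subgroup G) := e.symm ⟨π, Equiv.Perm.mem_alternatingGroup.2 h⟩
  refine hS a b hab ((g : G)⁻¹ * s)
    (hs.mul_left (inv_smul_eq_iff.2 (g.2.1 : (g : G) • a = a).symm)
      (inv_smul_eq_iff.2 (g.2.2 : (g : G) • b = b).symm)) fun k ka kb => ?_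
  let kH : (stabilizer G a ⊓ stabilizer G b : Subgroup G) := ⟨k, ka, kb⟩
  have h1 : e (φ kH) = e (g * kH * g⁻¹) := Subtype.ext (by
    rw [hval kH (φ kH) rfl]
    simp [g])
  have h2 : s * k * s⁻¹ = (g : G) * k * (g : G)⁻¹ := congrArg Subtype.val (e.injective h1)
  calc (g : G)⁻¹ * s * k = (g : G)⁻¹ * (s * k * s⁻¹) * s := by group
    _ = k * ((g : G)⁻¹ * s) := by rw [h2]; group

theorem sym_exists (hS : SymType G Ω) {a b : Ω} (hab : a ≠ b) {J : G} (hJ : InV a b J)
    (hJ1 : J ≠ 1) : ∃ u : G, Swap a b u ∧ u * u = 1 ∧ u * J = J * u ∧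
      ∀ v : G, InJ J a b v → v ≠ 1 → v ≠ J → u * v * u = v * J := by
  obtain ⟨e⟩ := D.iso a b hab
  obtain ⟨s, hs⟩ := D.exists_swap hab
  obtain ⟨π, hπ, hconj⟩ := D.swap_perm hS hab e hs
  let JH : (stabilizer G a ⊓ stabilizer G b : Subgroup G) := ⟨J, hJ.1, hJ.2.1⟩
  obtain ⟨p, hτs, hτj, hτv⟩ := s5_exists_transposition (e JH)
    (by rw [← map_mul, ← map_one e]; exact congrArg e (Subtype.ext hJ.2.2))
    (fun h => hJ1 (congrArg Subtype.val (e.injective (h.trans (map_one e).symm))))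
  set τ := Equiv.swap p ((e JH : Equiv.Perm (Fin 5)) p) with hτ
  have hττ : τ * τ = 1 := Equiv.swap_mul_self _ _
  let k : (stabilizer G a ⊓ stabilizer G b : Subgroup G) := e.symm ⟨τ * π⁻¹, Equiv.Perm.mem_alternatingGroup.2 (by
    rw [map_mul, map_inv, hτs, hπ]; decide)⟩
  set u : G := k * s with hu
  have hus : Swap a b u := hs.mul_left k.2.1 k.2.2
  have hval : ∀ x y : (stabilizer G a ⊓ stabilizer G b : Subgroup G), (y : G) = u * x * u⁻¹ → (e y : Equiv.Perm (Fin 5)) = τ * e x * τ⁻¹ := by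
    intro x y hy
    have h1 := hconj x (k⁻¹ * y * k) (by
      simp only [Subgroup.coe_mul, Subgroup.coe_inv, hy, hu]
      group)
    simp only [map_mul, map_inv, k, MulEquiv.apply_symm_apply, Subgroup.coe_mul, Subgroup.coe_inv] at h1
    calc (e y : Equiv.Perm (Fin 5))
        = (τ * π⁻¹) * ((τ * π⁻¹)⁻¹ * e y * (τ * π⁻¹)) * (τ * π⁻¹)⁻¹ := by group
      _ = τ * e x * τ⁻¹ := by rw [h1]; group
  have hmem : ∀ x : (stabilizer G a ⊓ stabilizer G b : Subgroup G), u * x * u⁻¹ ∈ (stabilizer G a ⊓ stabilizer G b : Subgroup G) := fun x => by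
    have h1 : (u * x * u⁻¹) • u • a = u • a := by rw [conj_smul]; congr 1; exact x.2.1
    have h2 : (u * x * u⁻¹) • u • b = u • b := by rw [conj_smul]; congr 1; exact x.2.2
    rw [hus.1] at h1
    rw [hus.2] at h2
    exact ⟨h2, h1⟩
  have huu : u * u = 1 := by
    refine D.two_point_center hab hus.sq_fix.1 hus.sq_fix.2 fun h ha hb => ?_
    have e1 := hval ⟨h, ha, hb⟩ ⟨_, hmem ⟨h, ha, hb⟩⟩ rfl
    have e2 := hval ⟨_, hmem ⟨h, ha, hb⟩⟩ ⟨_, hmem ⟨_, hmem ⟨h, ha, hb⟩⟩⟩ rfl
    rw [e1] at e2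
    have e3 : (e ⟨_, hmem ⟨_, hmem ⟨h, ha, hb⟩⟩⟩ : Equiv.Perm (Fin 5)) = e ⟨h, ha, hb⟩ := by
      rw [e2, inv_eq_of_mul_eq_one_right hττ]
      simp only [← mul_assoc, hττ, one_mul]
      rw [mul_assoc, hττ, mul_one]
    have e4 := congrArg Subtype.val (e.injective (Subtype.ext e3))
    refine mul_inv_eq_iff_eq_mul.1 ?_
    calc u * u * h * (u * u)⁻¹ = u * (u * h * u⁻¹) * u⁻¹ := by group
      _ = h := e4
  refine ⟨u, hus, huu, ?_, fun v hv hv1 hvJ => ?_⟩
  · have e1 := hval JH ⟨_, hmem JH⟩ rfl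
    rw [hτj, mul_inv_cancel_right] at e1
    exact mul_inv_eq_iff_eq_mul.1 (congrArg Subtype.val (e.injective (Subtype.ext e1)))
  · let vH : (stabilizer G a ⊓ stabilizer G b : Subgroup G) := ⟨v, hv.1.1, hv.1.2.1⟩
    have e1 := hval vH ⟨_, hmem vH⟩ rfl
    rw [inv_eq_of_mul_eq_one_right hττ, hτv (e vH) (by
        rw [← map_mul, ← map_mul]; exact congrArg e (Subtype.ext hv.2.symm))
      (fun h => hv1 (congrArg Subtype.val (e.injective (h.trans (map_one e).symm))))
      (fun h => hvJ (congrArg Subtype.val (e.injective h)))] at e1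
    have e2 : u * v * u⁻¹ = v * J := congrArg Subtype.val (e.injective (Subtype.ext
      (e1.trans (by rw [map_mul, Subgroup.coe_mul]) : (e ⟨_, hmem vH⟩ : Equiv.Perm (Fin 5)) = e (vH * JH))))
    rwa [inv_eq_of_mul_eq_one_right huu] at e2

theorem sym_cases {a b : Ω} (hab : a ≠ b) {J u v : G} (hJ : InV a b J)
    (hJ1 : J ≠ 1) (hv : InJ J a b v) (hv1 : v ≠ 1) (hvJ : v ≠ J) (hu : Swap a b u) (huu : u * u = 1)
    (huJ : u * J = J * u) (huv : u * v * u = v * J) {g : G} (hg : Swap a b g) (hgJ : g * J = J * g) :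
    (g = u ∨ g = u * J ∨ g = u * v ∨ g = u * (v * J)) ∧
      (g * g = 1 → g = u ∨ g = u * J) ∧ (g = u * v ∨ g = u * (v * J) → g * g = J) := by
  have hvj : v * J = J * v := hv.2
  have h4 : u * v * (u * v) = J := by
    rw [← mul_assoc, huv, mul_assoc, ← hvj, ← mul_assoc, hv.1.2.2, one_mul]
  have h5 : u * (v * J) * (u * (v * J)) = J := by
    have hc : Commute J (u * v) := Commute.mul_right huJ.symm hvj.symm
    calc u * (v * J) * (u * (v * J)) = u * v * (J * (u * v)) * J := by group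
      _ = u * v * ((u * v) * J) * J := by rw [hc.eq]
      _ = (u * v * (u * v)) * (J * J) := by group
      _ = J := by rw [h4, hJ.2.2, mul_one]
  have hI := D.swap_cent_coset hab hJ hJ1 hu huJ hg hgJ
  rw [inv_eq_of_mul_eq_one_right huu] at hI
  have hback : ∀ {y : G}, u * g = y → g = u * y := fun h => by
    rw [← h, ← mul_assoc, huu, one_mul]
  refine ⟨?_, fun h2 => ?_, ?_⟩
  · rcases D.inJ_cases hab hJ hJ1 hv hv1 hvJ hI with e | e | e | e
    · exact Or.inl (by rw [hback e, mul_one])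
    · exact Or.inr (Or.inl (hback e))
    · exact Or.inr (Or.inr (Or.inl (hback e)))
    · exact Or.inr (Or.inr (Or.inr (hback e)))
  · rcases D.inJ_cases hab hJ hJ1 hv hv1 hvJ hI with e | e | e | e
    · exact Or.inl (by rw [hback e, mul_one])
    · exact Or.inr (hback e)
    · rw [hback e, h4] at h2; exact absurd h2 hJ1
    · rw [hback e, h5] at h2; exact absurd h2 hJ1
  · rintro (rfl | rfl)
    exacts [h4, h5]

/-- An involution exchanging two points commutes with three involutions of their stabilizer. -/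
theorem sym_invol_cent (hS : SymType G Ω) {a b : Ω} (hab : a ≠ b) {t : G} (ht : Swap a b t)
    (htt : t * t = 1) :
    (univ.filter fun J : G => (InV a b J ∧ J ≠ 1) ∧ t * J = J * t).card = 3 := by
  obtain ⟨e⟩ := D.iso a b hab
  obtain ⟨π, hπ, hconj⟩ := D.swap_perm hS hab e ht
  have hti : t⁻¹ = t := inv_eq_of_mul_eq_one_right htt
  have hmem : ∀ x : (stabilizer G a ⊓ stabilizer G b : Subgroup G), t * x * t⁻¹ ∈ (stabilizer G a ⊓ stabilizer G b : Subgroup G) := fun x => by
    have h1 : (t * x * t⁻¹) • t • a = t • a := by rw [conj_smul]; congr 1; exact x.2.1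
    have h2 : (t * x * t⁻¹) • t • b = t • b := by rw [conj_smul]; congr 1; exact x.2.2
    rw [ht.1] at h1
    rw [ht.2] at h2
    exact ⟨h2, h1⟩
  have hππ : π * π = 1 := by
    obtain ⟨σ, hσ⟩ : ∃ σ, σ = π * π := ⟨_, rfl⟩
    have hall : ∀ x : A5, σ * x * σ⁻¹ = x := by
      intro x
      have e1 := hconj (e.symm x) ⟨_, hmem (e.symm x)⟩ rfl
      have e2 := hconj ⟨_, hmem (e.symm x)⟩ (e.symm x) (by
        show ((e.symm x : (stabilizer G a ⊓ stabilizer G b : Subgroup G)) : G) = t * (t * (e.symm x : (stabilizer G a ⊓ stabilizer G b : Subgroup G)) * t⁻¹) * t⁻¹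
        rw [hti, show t * (t * ((e.symm x : (stabilizer G a ⊓ stabilizer G b : Subgroup G)) : G) * t) * t = (t * t) * (e.symm x : (stabilizer G a ⊓ stabilizer G b : Subgroup G)) * (t * t) by group,
          htt, one_mul, mul_one])
      rw [e1, MulEquiv.apply_symm_apply] at e2
      rw [hσ]
      calc π * π * x * (π * π)⁻¹ = π * (π * x * π⁻¹) * π⁻¹ := by group
        _ = _ := e2.symm
    have : MulAut.conjNormal (H := A5) σ = MulAut.conjNormal (H := A5) (1 : Equiv.Perm (Fin 5)) := by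
      rw [map_one]
      exact MulEquiv.ext fun x => Subtype.ext (by rw [MulAut.conjNormal_apply]; exact hall x)
    exact hσ ▸ (Cfsg.Agent.S2119.result 5 (by norm_num) (by norm_num)).1 this
  rw [← s5_odd_cent π hππ hπ]
  refine card_bij (fun J hJ => e ⟨J, (mem_filter.1 hJ).2.1.1.1, (mem_filter.1 hJ).2.1.1.2.1⟩)
    (fun J hJ => ?_) (fun J _ K _ h => congrArg Subtype.val (e.injective h)) fun j hj => ?_
  · obtain ⟨⟨hV, hJ1⟩, hc⟩ := (mem_filter.1 hJ).2
    refine mem_filter.2 ⟨mem_univ _, ?_, ?_, ?_⟩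
    · exact fun h => hJ1 (congrArg Subtype.val ((MulEquiv.map_eq_one_iff e).1 h))
    · rw [← map_mul, ← map_one e]; exact congrArg e (Subtype.ext hV.2.2)
    · have := hconj ⟨J, hV.1, hV.2.1⟩ ⟨J, hV.1, hV.2.1⟩ (by rw [hc, mul_inv_cancel_right])
      exact (mul_inv_eq_iff_eq_mul.1 this.symm)
  · obtain ⟨hj1, hjj, hjc⟩ := (mem_filter.1 hj).2
    refine ⟨(e.symm j : G), mem_filter.2 ⟨mem_univ _, ⟨⟨(e.symm j).2.1, (e.symm j).2.2, ?_⟩, ?_⟩, ?_⟩, e.apply_symm_apply j⟩
    · rw [← Subgroup.coe_mul, ← map_mul, hjj, map_one, Subgroup.coe_one]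
    · exact fun h => hj1 ((MulEquiv.map_eq_one_iff e.symm).1 (Subtype.ext h))
    · have e1 := hconj (e.symm j) ⟨_, hmem (e.symm j)⟩ rfl
      rw [MulEquiv.apply_symm_apply, hjc, mul_inv_cancel_right] at e1
      have e2 := congrArg Subtype.val ((MulEquiv.eq_symm_apply e).2 (Subtype.ext e1))
      exact mul_inv_eq_iff_eq_mul.1 e2

end Hyp

end CfsgLib.TwoPointA5
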