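import Cfsg.Agent.TwoPointA5.Central
import Cfsg.Agent.TwoPointA4.Sym
import Cfsg.Agent.Char.FrobeniusKernel

/-!
# The symmetric type: general facts; normal subgroups
-/

set_option autoImplicit false
set_option linter.unusedSectionVars false
set_option linter.style.haveILetI false

namespace CfsgLib.TwoPointA5

open MulAction Finset CfsgLib.TwoPointA4
open scoped Classical

universe u v

variable {G : Type u} {Ω : Type v} [Group G] [MulAction G Ω] [Fintype Ω] [Fintype G]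

/-- No regular normal subgroup. -/
def NoRegular (G : Type u) (Ω : Type v) [Group G] [MulAction G Ω] : Prop :=
  ∀ N : Subgroup G, N.Normal → IsPretransitive N Ω → (∀ x : Ω, stabilizer N x = ⊥) → False

namespace Hyp

variable (D : Hyp G Ω)
include D

theorem normal_transitive {N : Subgroup G} (hN : N.Normal) (hne : N ≠ ⊥) (c d : Ω) :
    ∃ g ∈ N, g • c = d := by
  by_cases h : c = d
  · exact ⟨1, one_mem _, by rw [one_smul, h]⟩
  obtain ⟨g, hg, hg1⟩ : ∃ g ∈ N, g ≠ 1 := by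
    by_contra hall
    push Not at hall
    exact hne ((Subgroup.eq_bot_iff_forall N).2 hall)
  obtain ⟨x, hx⟩ : ∃ x : Ω, g • x ≠ x := by
    by_contra hall
    push Not at hall
    exact hg1 (D.faithful g hall)
  obtain ⟨k, rfl, rfl⟩ := D.trans x (g • x) c d (Ne.symm hx) h
  exact ⟨k * g * k⁻¹, hN.conj_mem g hg k, conj_smul k g x⟩

theorem normal_card {N : Subgroup G} (hN : N.Normal) (hne : N ≠ ⊥) (a : Ω) :
    Nat.card N = Nat.card Ω * Nat.card ↥(N ⊓ stabilizer G a) := by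
  rw [Nat.card_eq_fintype_card (α := Ω), ← card_univ]
  exact card_subgroup_point N univ (mem_univ a) (fun _ _ _ _ => mem_univ _)
    fun c _ => D.normal_transitive hN hne a c

theorem sym_card_omega (hS : SymType G Ω) {a b : Ω} (hab : a ≠ b) {J : G} (hJ : IsT Ω J) :
    3 * Nat.card Ω = 3 * (fx (Ω := Ω) J).card +
      2 * ((fx (Ω := Ω) J).card * ((fx (Ω := Ω) J).card - 1)) := by
  have h := D.swap_equation hab hJ
  rw [D.sym_iCount hS hab] at h
  have := D.fx_lt_card (Ω := Ω) hJ.2.1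
  omega

theorem sym_jCount (hS : SymType G Ω) {a b : Ω} (hab : a ≠ b) {J : G} (hJ : InV a b J) (hJ1 : J ≠ 1) :
    jCount J a b = 0 ∨ jCount J a b = 2 := by
  obtain ⟨u, hu, huu, huJ, huV⟩ := D.sym_exists hS hab hJ hJ1
  obtain ⟨v, hv, hv1, hvJ⟩ := D.exists_second hab hJ hJ1
  have hJT := isT_of_inV hab hJ hJ1
  have hsub : (kern Ω J).filter (fun g => g • a = b) ⊆ {u, u * J} := fun g hg => by
    obtain ⟨hgk, hga⟩ := mem_filter.1 hg
    have hgg := (D.kern_isT hJT hgk).1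
    have := (D.sym_cases hab hJ hJ1 hv hv1 hvJ hu huu huJ (huV v hv hv1 hvJ)
      (swap_of_invol hgg hga) (mem_kern.1 hgk).2.2.1).2.1 hgg
    simpa using this
  rcases ((kern Ω J).filter fun g => g • a = b).eq_empty_or_nonempty with he | ⟨g, hg⟩
  · exact Or.inl (by rw [jCount, he, card_empty])
  right
  obtain ⟨hgk, hga⟩ := mem_filter.1 hg
  have hgJ : g * J ∈ (kern Ω J).filter fun g => g • a = b :=
    mem_filter.2 ⟨D.kern_mul hJT hgk, by rw [mul_smul, hJ.1, hga]⟩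
  refine le_antisymm ((card_le_card hsub).trans card_le_two) ?_
  exact one_lt_card.2 ⟨g, hg, g * J, hgJ, fun e => hJ1 (mul_eq_left.1 e.symm)⟩

theorem sym_f_eq (hS : SymType G Ω) (hK : ¬ KV G Ω) {a b : Ω} (hab : a ≠ b) {J : G} (hJ : InV a b J)
    (hJ1 : J ≠ 1) : (fx (Ω := Ω) J).card = (FV J a b).card * (FV J a b).card := by
  have h := D.kern_swap_equation (isT_of_inV hab hJ hJ1) hab (mem_fx.2 hJ.1) (mem_fx.2 hJ.2.1)
  have hlt := D.card_FV_lt hK hab hJ hJ1
  have h2 := D.two_le_card_FV hab J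
  obtain ⟨k, hk⟩ : ∃ k, (FV J a b).card = k + 1 := ⟨_ - 1, (Nat.succ_pred_eq_of_pos (by omega)).symm⟩
  rw [hk] at h hlt ⊢
  rcases D.sym_jCount hS hab hJ hJ1 with e | e <;> rw [e] at h
  · omega
  · rw [show k + 1 - 1 = k by omega] at h
    have : (k + 1) * (k + 1) = (k + 1) * k + (k + 1) := by ring
    omega

theorem sym_even_two (hS : SymType G Ω) {a b : Ω} (hab : a ≠ b) {J : G}
    (hJ : InV a b J) (hJ1 : J ≠ 1) (he : Even (FV J a b).card) :
    (FV J a b).card = 2 := by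
  obtain ⟨p, k, hp, hk, hpk⟩ := D.isPrimePow_card_FV hab hJ hJ1
  obtain ⟨m, hm, hem⟩ := D.sym_parity hS hab hJ hJ1
  rw [← hpk] at hem ⊢ he
  have hp2 : p = 2 := ((Nat.prime_dvd_prime_iff_eq Nat.prime_two hp.nat_prime).1
    (Nat.prime_two.dvd_of_dvd_pow (even_iff_two_dvd.1 he))).symm
  subst hp2
  obtain rfl | hk2 : k = 1 ∨ 2 ≤ k := by omega
  · rfl
  exfalso
  obtain ⟨j, rfl⟩ : ∃ j, k = j + 2 := ⟨k - 2, by omega⟩
  obtain ⟨i, hi⟩ := hm
  rw [show 2 ^ (j + 2) * (2 ^ (j + 2) - 1) = 2 * (2 * (2 ^ j * (2 ^ (j + 2) - 1))) by ring] at hem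
  omega

theorem sym_odd_mod_four (hS : SymType G Ω) {a b : Ω} (hab : a ≠ b) {J : G}
    (hJ : InV a b J) (hJ1 : J ≠ 1) (he : Odd (FV J a b).card) :
    (FV J a b).card % 4 = 3 := by
  obtain ⟨m, hm, hem⟩ := D.sym_parity hS hab hJ hJ1
  obtain ⟨k, hk⟩ := he
  rw [hk, show 2 * k + 1 - 1 = 2 * k by omega, show (2 * k + 1) * (2 * k) = 2 * ((2 * k + 1) * k) by ring] at hem
  have hk' : Odd k := (Nat.odd_mul.1 ((show (2 * k + 1) * k = m by omega) ▸ hm)).2
  obtain ⟨j, rfl⟩ := hk'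
  omega

/-- A nontrivial normal subgroup does not meet all two-point stabilizers trivially. -/
theorem normal_not_free (hnr : NoRegular G Ω) {N : Subgroup G} (hN : N.Normal) (hne : N ≠ ⊥)
    (hfree : ∀ c d : Ω, c ≠ d → ∀ g ∈ N, g • c = c → g • d = d → g = 1) : False := by
  obtain ⟨a, b, hab⟩ := D.nontriv
  set H0 := (stabilizer G a).subgroupOf N with hH0
  have hmem : ∀ g : N, g ∈ H0 ↔ (g : G) • a = a := fun g => by
    simp [hH0, Subgroup.mem_subgroupOf, mem_stabilizer_iff]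
  obtain ⟨K, -, -, hsup, -, hK⟩ := CfsgLib.Char.exists_frobenius_kernel H0 fun g hg h hh hgh => by
    rw [hmem] at hh hgh
    refine Subtype.ext (hfree a ((g : G)⁻¹ • a) (fun e => hg ((hmem g).2 ?_)) h h.2 hh ?_)
    · conv_lhs => rw [e, smul_inv_smul]
    · simp only [Subgroup.coe_mul, Subgroup.coe_inv, mul_smul] at hgh
      rw [eq_inv_smul_iff, hgh]
  set K' := K.map N.subtype
  have hiff : ∀ g : G, g ∈ K' ↔ g ∈ N ∧ (g = 1 ∨ ∀ c : Ω, g • c ≠ c) := by
    intro g
    constructor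
    · rintro ⟨k, hk, rfl⟩
      refine ⟨k.2, ((hK k).1 hk).imp (fun h => by rw [h]; rfl) fun h c hc => ?_⟩
      obtain ⟨m, hm, rfl⟩ := D.normal_transitive hN hne a c
      refine h ⟨m, hm⟩ ((hmem _).2 ?_)
      simp only [Subgroup.coe_mul, Subgroup.coe_inv, Subgroup.coe_subtype] at hc ⊢
      rw [mul_smul, mul_smul, hc, inv_smul_smul]
    · rintro ⟨hg, h⟩
      refine ⟨⟨g, hg⟩, (hK _).2 (h.imp (fun h => Subtype.ext h) fun h x hx => ?_), rfl⟩
      rw [hmem, Subgroup.coe_mul, Subgroup.coe_mul, Subgroup.coe_inv, mul_smul, mul_smul,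
        inv_smul_eq_iff] at hx
      exact h _ hx
  have hKn : K'.Normal := ⟨fun g hg k => by
    obtain ⟨h1, h2⟩ := (hiff g).1 hg
    refine (hiff _).2 ⟨hN.conj_mem g h1 k, h2.imp (fun h => by rw [h]; group) fun h c hc => h (k⁻¹ • c) ?_⟩
    rw [← smul_inv_smul k c, conj_smul] at hc
    exact smul_left_cancel k hc⟩
  have hKne : K' ≠ ⊥ := fun e => by
    rw [Subgroup.map_eq_bot_iff_of_injective _ N.subtype_injective] at e
    rw [e, bot_sup_eq] at hsup
    obtain ⟨m, hm, hma⟩ := D.normal_transitive hN hne a b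
    have h0 : (⟨m, hm⟩ : N) ∈ H0 := by rw [hsup]; exact Subgroup.mem_top _
    rw [hmem] at h0
    exact hab (h0.symm.trans hma)
  refine hnr K' hKn ⟨fun c d => ?_⟩ fun x => eq_bot_iff.2 fun k hk => ?_
  · obtain ⟨g, hg, h⟩ := D.normal_transitive hKn hKne c d
    exact ⟨⟨g, hg⟩, h⟩
  · rw [Subgroup.mem_bot]
    exact Subtype.ext (((hiff k).1 k.2).2.resolve_right fun h => h x hk)

/-- A normal subgroup meets all two-point stabilizers trivially or contains them. -/
theorem normal_two_point {N : Subgroup G} (hN : N.Normal) :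
    (∀ c d : Ω, c ≠ d → ∀ g ∈ N, g • c = c → g • d = d → g = 1) ∨
      ∀ c d : Ω, c ≠ d → ∀ g : G, g • c = c → g • d = d → g ∈ N := by
  by_cases h : ∀ c d : Ω, c ≠ d → ∀ g ∈ N, g • c = c → g • d = d → g = 1
  · exact Or.inl h
  right
  push Not at h
  obtain ⟨p, q, hpq, g0, hg0, hp, hq, hg1⟩ := h
  intro c d hcd g hc hd
  obtain ⟨k, rfl, rfl⟩ := D.trans p q c d hpq hcd
  set H := stabilizer G p ⊓ stabilizer G q
  obtain ⟨e⟩ := D.iso p q hpq
  haveI := alternatingGroup.isSimpleGroup_five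
  haveI : IsSimpleGroup H := e.isSimpleGroup
  haveI : (N.subgroupOf H).Normal := hN.subgroupOf H
  rcases IsSimpleGroup.eq_bot_or_eq_top_of_normal (N.subgroupOf H) inferInstance with h | h
  · exfalso
    have hm : (⟨g0, hp, hq⟩ : H) ∈ N.subgroupOf H := hg0
    rw [h, Subgroup.mem_bot] at hm
    exact hg1 (congrArg Subtype.val hm)
  · have hm : (⟨k⁻¹ * g * k, show (k⁻¹ * g * k) • p = p by rw [mul_smul, mul_smul, hc, inv_smul_smul],
        show (k⁻¹ * g * k) • q = q by rw [mul_smul, mul_smul, hd, inv_smul_smul]⟩ : H) ∈ N.subgroupOf H := by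
      rw [h]; exact Subgroup.mem_top _
    have := hN.conj_mem _ hm k
    simp only [Subgroup.coe_subtype] at this
    rwa [show k * (k⁻¹ * g * k) * k⁻¹ = g by group] at this

end Hyp

end CfsgLib.TwoPointA5
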